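import Groth.Agent.SynLift.Projector
import Groth.Agent.SmoothingLib.LiftSmooth
import Mathlib.RingTheory.Smooth.StandardSmoothOfFree

/-!
# Lifting syntomic algebras along a closed subscheme
-/

universe u

open MvPolynomial TensorProduct Groth.Agent.Synt29 Groth.Agent.SmoothingLib

set_option linter.style.haveILetI false

namespace Groth.Agent.SynLift

theorem exists_factor {R A B C : Type u} [CommRing R] [CommRing A] [CommRing B] [CommRing C] [Algebra R A]
    [Algebra R B] [Algebra R C] (π : A →ₐ[R] B) (hπ : Function.Surjective π) (g : A →ₐ[R] C)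
    (h : ∀ x, π x = 0 → g x = 0) : ∃ g' : B →ₐ[R] C, ∀ x, g' (π x) = g x := by
  refine ⟨(Ideal.Quotient.liftₐ (RingHom.ker π.toRingHom) g h).comp
    (Ideal.quotientKerAlgEquivOfSurjective (R₁ := R) hπ).symm.toAlgHom, fun x => ?_⟩
  show Ideal.Quotient.liftₐ (RingHom.ker π.toRingHom) g h
    ((Ideal.quotientKerAlgEquivOfSurjective (R₁ := R) hπ).symm (π x)) = g x
  rw [show (Ideal.quotientKerAlgEquivOfSurjective (R₁ := R) hπ).symm (π x) = Ideal.Quotient.mk _ x from
    (Ideal.quotientKerAlgEquivOfSurjective (R₁ := R) hπ).symm_apply_eq.2 rfl]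
  rfl

theorem isSyntomic_of_algEquiv {R S T : Type u} [CommRing R] [CommRing S] [CommRing T] [Algebra R S] [Algebra R T]
    (e : S ≃ₐ[R] T) (h : Synt.IsSyntomic R S) : Synt.IsSyntomic R T := by
  letI : Algebra S T := e.toAlgHom.toRingHom.toAlgebra
  haveI : IsScalarTower R S T := IsScalarTower.of_algebraMap_eq fun r => (e.commutes r).symm
  haveI : IsLocalization.Away (1 : S) T := IsLocalization.away_of_isUnit_of_bijective T isUnit_one e.bijective
  exact isSyntomic_away_target h 1 T

/-- An étale algebra over a polynomial ring is presented with as many relations as extra variables. -/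
theorem exists_presentation_of_etale {R B : Type u} [CommRing R] [CommRing B] {n : ℕ}
    [Algebra (MvPolynomial (Fin n) R) B] [Algebra R B] [IsScalarTower R (MvPolynomial (Fin n) R) B]
    [Algebra.Etale (MvPolynomial (Fin n) R) B] :
    ∃ (N : ℕ) (r : Fin N → MvPolynomial (Fin (n + N)) R) (π : MvPolynomial (Fin (n + N)) R →ₐ[R] B),
      Function.Surjective π ∧ RingHom.ker π.toRingHom = Ideal.span (Set.range r) := by
  haveI : Algebra.IsStandardSmoothOfRelativeDimension 0 (MvPolynomial (Fin n) R) B :=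
    Algebra.Etale.iff_isStandardSmoothOfRelativeDimension_zero.1 inferInstance
  obtain ⟨ι, σ, _, _, Q, hQ⟩ := Algebra.IsStandardSmoothOfRelativeDimension.out (n := 0) (R := MvPolynomial (Fin n) R) (S := B)
  have hle : Nat.card σ ≤ Nat.card ι := Nat.card_le_card_of_injective Q.map Q.map_inj
  have hcard : Nat.card ι = Nat.card σ := by
    have : Nat.card ι - Nat.card σ = 0 := hQ
    omega
  let Q' : Algebra.Presentation (MvPolynomial (Fin n) R) B (Fin (Nat.card σ)) (Fin (Nat.card σ)) :=
    Q.toPresentation.reindex ((finCongr hcard.symm).trans (Finite.equivFin ι).symm) (Finite.equivFin σ).symm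
  let e : MvPolynomial (Fin (n + Nat.card σ)) R ≃ₐ[R] MvPolynomial (Fin (Nat.card σ)) (MvPolynomial (Fin n) R) :=
    (renameEquiv R (finSumFinEquiv.symm.trans (Equiv.sumComm _ _))).trans (sumAlgEquiv R _ _)
  let φ : MvPolynomial (Fin (Nat.card σ)) (MvPolynomial (Fin n) R) →ₐ[MvPolynomial (Fin n) R] B := aeval Q'.val
  have hker : RingHom.ker φ.toRingHom = Ideal.span (Set.range Q'.relation) :=
    (Q'.span_range_relation_eq_ker.trans Q'.ker_eq_ker_aeval_val).symm
  refine ⟨Nat.card σ, fun i => e.symm (Q'.relation i), (φ.restrictScalars R).comp e.toAlgHom,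
    fun b => ?_, ?_⟩
  · obtain ⟨y, hy⟩ := Q'.aeval_val_surjective b
    exact ⟨e.symm y, by show φ (e (e.symm y)) = b; rw [e.apply_symm_apply]; exact hy⟩
  · refine le_antisymm (fun x hx => ?_) (Ideal.span_le.2 ?_)
    · have h1 : e x ∈ Ideal.span (Set.range Q'.relation) := hker ▸ (hx : φ (e x) = 0)
      have h2 := Ideal.mem_map_of_mem e.symm.toRingEquiv.toRingHom h1
      rw [Ideal.map_span, ← Set.range_comp] at h2
      rw [show e.symm.toRingEquiv.toRingHom (e x) = x from e.symm_apply_apply x] at h2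
      exact h2
    · rintro _ ⟨i, rfl⟩
      show φ (e (e.symm (Q'.relation i))) = 0
      rw [e.apply_symm_apply]
      have h1 : Q'.relation i ∈ Ideal.span (Set.range Q'.relation) := Ideal.subset_span ⟨i, rfl⟩
      rw [← hker] at h1
      exact h1

set_option maxHeartbeats 1000000 in
/-- The lifted algebra is syntomic near each prime of the closed subscheme. -/
theorem exists_syntomic_nhd {R A₀ B : Type u} [CommRing R] (I : Ideal R) [CommRing A₀] [Algebra (R ⧸ I) A₀]
    [Algebra R A₀] [IsScalarTower R (R ⧸ I) A₀] (h : Synt.IsSyntomic (R ⧸ I) A₀) {n m N : ℕ}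
    (φ₀ : MvPolynomial (Fin n) (R ⧸ I) →ₐ[R ⧸ I] A₀) (hφ₀ : Function.Surjective φ₀)
    (f₀ : Fin m → MvPolynomial (Fin n) (R ⧸ I)) (hker₀ : RingHom.ker φ₀.toRingHom = Ideal.span (Set.range f₀))
    (E₀ : Matrix (Fin m) (Fin m) A₀) (hE₀ : ∀ v ∈ syz φ₀ f₀, Matrix.vecMul v E₀ = 0)
    [CommRing B] [Algebra R B] (π : MvPolynomial (Fin (n + N)) R →ₐ[R] B) (hπ : Function.Surjective π)
    (r : Fin N → MvPolynomial (Fin (n + N)) R) (hr : RingHom.ker π.toRingHom = Ideal.span (Set.range r))
    (θ : B →ₐ[R] A₀) (hθ : Function.Surjective θ) (W : Matrix (Fin m) (Fin m) B) (hW : W.map θ = E₀)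
    (G : Fin m → B) (hWG : Matrix.mulVec W G = G) (hG : ∀ l, θ (G l) = 0) (u : B) (hu : θ u = 1)
    (hu' : ∀ b, θ b = 0 → u * b ∈ I.map (algebraMap R B) ⊔ Ideal.span (Set.range G)) (q : PrimeSpectrum A₀) :
    ∃ g : B, θ g ∉ q.asIdeal ∧
      Synt.IsSyntomic R (Localization.Away (Ideal.Quotient.mk (Ideal.span (Set.range G)) g)) := by
  classical
  obtain ⟨c, hcn, F', H, hH, hF', hkill, hgci⟩ := exists_adapted h φ₀ hφ₀ q
  have hFI : ∀ k, F' k ∈ Ideal.span (Set.range f₀) := fun k => hker₀.le (hF' k)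
  choose β₀ hβ₀ using fun k => Ideal.mem_span_range_iff_exists_fun.1 (hFI k)
  choose α₀ hα₀ using fun l => Ideal.mem_span_range_iff_exists_fun.1 (hkill (f₀ l) (by
    have : f₀ l ∈ RingHom.ker φ₀.toRingHom := hker₀ ▸ Ideal.subset_span ⟨l, rfl⟩
    exact this))
  choose a' ha' using fun l k => hθ (φ₀ (α₀ l k))
  choose b' hb' using fun k j => hθ (φ₀ (β₀ k j))
  obtain ⟨Hb, hHb⟩ := hθ (φ₀ H)
  let a : Matrix (Fin m) (Fin c) B := Matrix.of a'
  let b : Matrix (Fin c) (Fin m) B := Matrix.of b'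
  let L : Matrix (Fin m) (Fin m) B := Hb • (1 : Matrix (Fin m) (Fin m) B) - a * b
  let M : Matrix (Fin m) (Fin m) B := L * W
  have hLrow : ∀ l, (fun j => (θ.mapMatrix L) l j) ∈ syz φ₀ f₀ := by
    intro l
    refine ⟨fun j => (if l = j then H else 0) - ∑ k, α₀ l k * β₀ k j, fun j => ?_, ?_⟩
    · simp [L, a, b, ha', hb', hHb, Matrix.mul_apply, Matrix.one_apply, apply_ite φ₀, apply_ite θ]
    · have h0 : ∑ j, ((if l = j then H else 0) - ∑ k, α₀ l k * β₀ k j) * f₀ j = 0 := by
        simp only [sub_mul, Finset.sum_sub_distrib, ite_mul, zero_mul, Finset.sum_ite_eq, Finset.mem_univ, if_true,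
          Finset.sum_mul, mul_assoc]
        rw [Finset.sum_comm]
        simp only [← Finset.mul_sum, hβ₀]
        rw [sub_eq_zero]
        exact (hα₀ l).symm
      rw [h0]; exact zero_mem _
  have hθM : θ.mapMatrix M = 0 := by
    rw [map_mul, show θ.mapMatrix W = E₀ from hW]
    ext l j
    rw [Matrix.mul_apply_eq_vecMul, Matrix.zero_apply]
    exact congrFun (hE₀ _ (hLrow l)) j
  let g : Fin c → B := Matrix.mulVec b G
  have hMG : Matrix.mulVec (Hb • (1 : Matrix (Fin m) (Fin m) B) - M) G = Matrix.mulVec a g := by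
    simp only [M, L, g, Matrix.sub_mulVec, Matrix.smul_mulVec, Matrix.one_mulVec, ← Matrix.mulVec_mulVec, hWG]
    abel
  let D : B := (Hb • (1 : Matrix (Fin m) (Fin m) B) - M).det
  have hD : θ D = φ₀ H ^ m := by
    simp only [D, AlgHom.map_det, map_sub, hθM, sub_zero]
    rw [show θ.mapMatrix (Hb • (1 : Matrix (Fin m) (Fin m) B)) = φ₀ H • 1 by
      ext i j; simp [Matrix.one_apply, apply_ite θ, hHb]]
    rw [Matrix.det_smul, Matrix.det_one, mul_one, Fintype.card_fin]
  have hDG : ∀ l, D * G l ∈ Ideal.span (Set.range g) := by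
    intro l
    have h1 := congrArg (fun v => Matrix.mulVec (Hb • (1 : Matrix (Fin m) (Fin m) B) - M).adjugate v l) hMG
    simp only [Matrix.mulVec_mulVec, Matrix.adjugate_mul, Matrix.smul_mulVec, Matrix.one_mulVec, Pi.smul_apply,
      smul_eq_mul] at h1
    rw [h1]
    show ∑ k, _ * g k ∈ _
    exact Ideal.sum_mem _ fun k _ => Ideal.mul_mem_left _ _ (Ideal.subset_span (Set.mem_range_self k))
  have hg0 : ∀ k, θ (g k) = 0 := fun k => by
    simp [g, Matrix.mulVec, dotProduct, hG]
  have hgG : ∀ k, g k ∈ Ideal.span (Set.range G) := fun k => by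
    show ∑ l, b k l * G l ∈ _
    exact Ideal.sum_mem _ fun l _ => Ideal.mul_mem_left _ _ (Ideal.subset_span (Set.mem_range_self l))
  choose gt hgt using fun k => hπ (g k)
  let Gs : Fin (N + c) → MvPolynomial (Fin (n + N)) R := Fin.append r gt
  let S := Synt.RelGCIRing R (n + N) (N + c) Gs
  let mkS : MvPolynomial (Fin (n + N)) R →ₐ[R] S := Ideal.Quotient.mkₐ R _
  obtain ⟨β, hβ⟩ := exists_factor π hπ mkS (fun x hx => by
    refine Ideal.Quotient.eq_zero_iff_mem.2 ?_
    refine Ideal.span_mono ?_ (hr.le (hx : x ∈ RingHom.ker π.toRingHom))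
    rintro _ ⟨i, rfl⟩
    exact ⟨Fin.castAdd c i, Fin.append_left _ _ _⟩)
  have hβs : Function.Surjective β := fun y => by
    obtain ⟨x, rfl⟩ := Ideal.Quotient.mk_surjective y
    exact ⟨π x, hβ x⟩
  have hβg : ∀ k, β (g k) = 0 := fun k => by
    rw [← hgt k, hβ]
    exact Ideal.Quotient.eq_zero_iff_mem.2 (Ideal.subset_span ⟨Fin.natAdd N k, Fin.append_right _ _ _⟩)
  have hkills : ∀ {X : Type u} [CommRing X] [Algebra R X] (ψ : B →ₐ[R] X), IsUnit (ψ D) → (∀ k, ψ (g k) = 0) →
      ∀ x ∈ Ideal.span (Set.range G), ψ x = 0 := by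
    intro X _ _ ψ hψ hψg x hx
    have : Ideal.span (Set.range G) ≤ RingHom.ker ψ.toRingHom := by
      rw [Ideal.span_le]
      rintro _ ⟨l, rfl⟩
      show ψ (G l) = 0
      have h1 : Ideal.span (Set.range g) ≤ RingHom.ker ψ.toRingHom := by
        rw [Ideal.span_le]; rintro _ ⟨k, rfl⟩; exact hψg k
      have h2 : ψ (D * G l) = 0 := h1 (hDG l)
      rw [map_mul] at h2
      exact hψ.mul_right_eq_zero.1 h2
    exact this hx
  let θS : S →ₐ[R] A₀ := Ideal.Quotient.liftₐ _ (θ.comp π) (fun x hx => by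
    refine (Ideal.span_le (I := RingHom.ker (θ.comp π).toRingHom)).2 ?_ hx
    rintro _ ⟨i, rfl⟩
    show θ (π (Gs i)) = 0
    induction i using Fin.addCases with
    | left i =>
      rw [show Gs (Fin.castAdd c i) = r i from Fin.append_left _ _ _]
      have : r i ∈ RingHom.ker π.toRingHom := hr ▸ Ideal.subset_span ⟨i, rfl⟩
      rw [show π (r i) = 0 from this, map_zero]
    | right k =>
      rw [show Gs (Fin.natAdd N k) = gt k from Fin.append_right _ _ _, hgt, hg0])
  have hθS : ∀ x, θS (β x) = θ x := fun x => by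
    obtain ⟨y, rfl⟩ := hπ x
    rw [hβ]; rfl
  let D' : B := D * u * Hb
  have hD' : θ D' = φ₀ H ^ (m + 1) := by rw [map_mul, map_mul, hD, hu, hHb, mul_one, pow_succ]
  have hD'q : θ D' ∉ q.asIdeal := fun hm => hH (q.2.mem_of_pow_mem _ (hD' ▸ hm))
  let qS : PrimeSpectrum S := PrimeSpectrum.comap θS.toRingHom q
  have hqS : ∀ x, β x ∈ qS.asIdeal ↔ θ x ∈ q.asIdeal := fun x => by
    show θS (β x) ∈ q.asIdeal ↔ _
    rw [hθS]
  let T := Localization.Away (β D')
  obtain ⟨qT, hqT⟩ : qS ∈ Set.range (PrimeSpectrum.comap (algebraMap S T)) := by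
    rw [PrimeSpectrum.localization_away_comap_range T (β D')]
    exact fun hm => hD'q ((hqS D').1 hm)
  -- fibre dimension of `T` over the image of `q`
  let p := PrimeSpectrum.comap (algebraMap R A₀) q
  have hqTp : PrimeSpectrum.comap (algebraMap R T) qT = p := by
    rw [IsScalarTower.algebraMap_eq R S T, PrimeSpectrum.comap_comp_apply, hqT, ← PrimeSpectrum.comap_comp_apply]
    congr 1
    exact θS.comp_algebraMap
  have hIp : ∀ x ∈ I, algebraMap R p.asIdeal.ResidueField x = 0 := fun x hx => by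
    rw [Ideal.algebraMap_residueField_eq_zero]
    show algebraMap R A₀ x ∈ q.asIdeal
    rw [IsScalarTower.algebraMap_apply R (R ⧸ I) A₀, Ideal.Quotient.algebraMap_eq,
      Ideal.Quotient.eq_zero_iff_mem.2 hx, map_zero]
    exact zero_mem _
  let k := p.asIdeal.ResidueField
  let Fib := p.asIdeal.Fiber T
  haveI hst : IsScalarTower R k Fib := TensorProduct.isScalarTower_left
  let ε : B →ₐ[R] Fib := (Algebra.TensorProduct.includeRight.comp (IsScalarTower.toAlgHom R S T)).comp β
  have hεD' : IsUnit (ε D') :=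
    (IsLocalization.Away.algebraMap_isUnit (S := T) (β D')).map (Algebra.TensorProduct.includeRight (A := k))
  have hεu : IsUnit (ε D) ∧ IsUnit (ε u) := by
    have h1 := hεD'
    simp only [D', map_mul, IsUnit.mul_iff] at h1
    exact h1.1
  have hεI : ∀ x ∈ I.map (algebraMap R B), ε x = 0 := fun x hx => by
    have : I.map (algebraMap R B) ≤ RingHom.ker ε.toRingHom := by
      rw [Ideal.map_le_iff_le_comap]
      intro s hs
      show ε (algebraMap R B s) = 0
      rw [AlgHom.commutes, IsScalarTower.algebraMap_apply R k Fib, hIp s hs, map_zero]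
    exact this hx
  have hεker : ∀ x, θ x = 0 → ε x = 0 := fun x hx => by
    obtain ⟨x₁, hx₁, x₂, hx₂, hsum⟩ := Submodule.mem_sup.1 (hu' x hx)
    have : ε (u * x) = 0 := by
      rw [← hsum, map_add, hεI _ hx₁, hkills ε hεu.1 (fun k => by simp [ε, hβg]) _ hx₂, add_zero]
    rw [map_mul] at this
    exact hεu.2.mul_right_eq_zero.1 this
  obtain ⟨η, hη⟩ := exists_factor θ hθ ε hεker
  have hηH : IsUnit (η (φ₀ H)) := by
    rw [← hHb, hη]
    have h1 := hεD'
    simp only [D', map_mul, IsUnit.mul_iff] at h1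
    exact h1.2
  letI : Algebra (R ⧸ I) k := (Ideal.Quotient.lift I (algebraMap R k) hIp).toAlgebra
  let G' : Fin (c + 1) → MvPolynomial (Fin (n + 1)) k := mapPoly (R ⧸ I) (snocPoly F' H) k
  have hG' : Synt.IsRelGCI k (n + 1) (c + 1) G' := isRelGCI_mapPoly hgci
  let t : Fib := ((hηH.unit⁻¹ : Fibˣ) : Fib)
  let ψ : MvPolynomial (Fin (n + 1)) k →ₐ[k] Fib := aeval (Fin.snoc (fun i => η (φ₀ (X i))) t)
  have hψ : ∀ x, ψ (MvPolynomial.map (algebraMap (R ⧸ I) k) (rename Fin.castSucc x)) = η (φ₀ x) := by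
    intro x
    have : (ψ.toRingHom.comp (MvPolynomial.map (algebraMap (R ⧸ I) k))).comp (rename Fin.castSucc).toRingHom =
        η.toRingHom.comp φ₀.toRingHom := by
      refine MvPolynomial.ringHom_ext (fun s => ?_) (fun i => ?_)
      · obtain ⟨s, rfl⟩ := Ideal.Quotient.mk_surjective s
        show ψ (MvPolynomial.map (algebraMap (R ⧸ I) k) (rename Fin.castSucc (C (Ideal.Quotient.mk I s)))) =
          η (φ₀ (C (Ideal.Quotient.mk I s)))
        rw [rename_C, MvPolynomial.map_C, MvPolynomial.algHom_C, MvPolynomial.algHom_C]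
        show algebraMap k Fib (algebraMap R k s) = η (algebraMap (R ⧸ I) A₀ (Ideal.Quotient.mk I s))
        rw [← IsScalarTower.algebraMap_apply, ← Ideal.Quotient.algebraMap_eq, ← IsScalarTower.algebraMap_apply,
          AlgHom.commutes]
      · show ψ (MvPolynomial.map (algebraMap (R ⧸ I) k) (rename Fin.castSucc (X i))) = η (φ₀ (X i))
        simp [ψ]
    exact RingHom.congr_fun this x
  have hψt : ψ (X (Fin.last n)) = t := by simp [ψ]
  have hψker : Ideal.span (Set.range G') ≤ RingHom.ker ψ.toRingHom := by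
    rw [Ideal.span_le]
    rintro _ ⟨i, rfl⟩
    show ψ (MvPolynomial.map _ (snocPoly F' H i)) = 0
    refine Fin.lastCases ?_ (fun l => ?_) i
    · simp only [snocPoly, Fin.snoc_last, map_sub, map_mul, map_one, hψ, MvPolynomial.map_X, hψt, t]
      rw [IsUnit.mul_val_inv, sub_self]
    · simp only [snocPoly, Fin.snoc_castSucc, hψ, hF', map_zero]
  let ψ' : Synt.RelGCIRing k (n + 1) (c + 1) G' →ₐ[k] Fib := Ideal.Quotient.liftₐ _ ψ hψker
  have hrange : ∀ y : T, ∃ z, ψ z = (1 : k) ⊗ₜ[R] y := by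
    intro y
    obtain ⟨j, s, hs⟩ := IsLocalization.Away.surj (β D') y
    obtain ⟨x, rfl⟩ := hβs s
    obtain ⟨w, hw⟩ := hφ₀ (θ x)
    refine ⟨MvPolynomial.map (algebraMap (R ⧸ I) k) (rename Fin.castSucc w) * (X (Fin.last n) ^ (m + 1)) ^ j, ?_⟩
    rw [map_mul, map_pow, map_pow, hψ, hw, hη, hψt]
    have h1 : ε x = ((1 : k) ⊗ₜ[R] y) * ε D' ^ j := by
      show (1 : k) ⊗ₜ[R] algebraMap S T (β x) = _ * ((1 : k) ⊗ₜ[R] algebraMap S T (β D')) ^ j
      rw [← hs, Algebra.TensorProduct.tmul_pow, Algebra.TensorProduct.tmul_mul_tmul, one_pow, one_mul]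
    rw [h1, ← hη D', hD', map_pow, mul_assoc, ← mul_pow, ← mul_pow, IsUnit.mul_val_inv, one_pow, one_pow, mul_one]
  have hψs : Function.Surjective ψ' := by
    intro z
    suffices h : ∃ x, ψ x = z by obtain ⟨x, hx⟩ := h; exact ⟨Ideal.Quotient.mk _ x, hx⟩
    induction z using TensorProduct.induction_on with
    | zero => exact ⟨0, map_zero _⟩
    | tmul s y =>
      obtain ⟨x, hx⟩ := hrange y
      refine ⟨s • x, ?_⟩
      rw [map_smul, hx, TensorProduct.smul_tmul', smul_eq_mul, mul_one]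
    | add z₁ z₂ h₁ h₂ =>
      obtain ⟨x₁, rfl⟩ := h₁
      obtain ⟨x₂, rfl⟩ := h₂
      exact ⟨x₁ + x₂, map_add _ _ _⟩
  have hdim : ringKrullDim Fib ≤ ((n - c : ℕ) : WithBot ℕ∞) := by
    refine (ringKrullDim_le_of_surjective ψ'.toRingHom hψs).trans ?_
    rcases subsingleton_or_nontrivial (Synt.RelGCIRing k (n + 1) (c + 1) G') with hs | hs
    · rw [ringKrullDim_eq_bot_of_subsingleton]; exact bot_le
    let X' := Synt.RelGCIRing k (n + 1) (c + 1) G'
    let p₀ : PrimeSpectrum k := ⟨⊥, Ideal.isPrime_bot⟩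
    have hinj : Function.Injective (Algebra.TensorProduct.includeRight : X' →ₐ[k] p₀.asIdeal.Fiber X') :=
      Algebra.TensorProduct.includeRight_injective (algebraMap k p₀.asIdeal.ResidueField).injective
    haveI : Nontrivial (p₀.asIdeal.Fiber X') := hinj.nontrivial
    haveI : Algebra.FiniteType k X' :=
      Algebra.FiniteType.of_surjective (Ideal.Quotient.mkₐ k _) Ideal.Quotient.mk_surjective
    have h2 := (hG' p₀ inferInstance).2
    rw [ringKrullDim_tensor_field k p₀.asIdeal.ResidueField X'] at h2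
    rw [h2, Nat.add_sub_add_right]
  haveI : Algebra.FiniteType R S :=
    Algebra.FiniteType.of_surjective mkS Ideal.Quotient.mk_surjective
  haveI : Algebra.FiniteType S T := IsLocalization.finiteType_of_monoid_fg (Submonoid.powers (β D')) T
  haveI : Algebra.FiniteType R T := Algebra.FiniteType.trans (S := S) inferInstance inferInstance
  have hgood : qS ∈ goodLocus R S (n - c) :=
    hqT ▸ goodLocus_of_away T (β D') (n - c) qT (mem_goodLocus _ _ (by rw [hqTp]; exact hdim))
  obtain ⟨_, ⟨s, rfl⟩, hsq, hsU⟩ :=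
    PrimeSpectrum.isTopologicalBasis_basic_opens.exists_subset_of_mem_open hgood (isOpen_goodLocus _)
  obtain ⟨x, rfl⟩ := hβs s
  refine ⟨x * D', ?_, ?_⟩
  · rw [map_mul]
    exact fun hm => (q.2.mem_or_mem hm).elim (fun h => hsq ((hqS x).2 h)) hD'q
  obtain ⟨hp, hhp⟩ := hπ (x * D')
  have hS : Synt.IsSyntomic R (Localization.Away (β (x * D'))) := by
    have h1 : Synt.IsRelGCI R (n + N + 1) (N + c + 1) (snocPoly Gs hp) := by
      refine isRelGCI_snoc Gs (by omega) hp ?_
      rw [show n + N - (N + c) = n - c by omega,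
        show Ideal.Quotient.mk (Ideal.span (Set.range Gs)) hp = β (x * D') by rw [← hhp, hβ]; rfl]
      refine le_trans ?_ hsU
      rw [map_mul]
      exact PrimeSpectrum.basicOpen_mul_le_left _ _
    obtain ⟨e⟩ := awayEquiv Gs hp
    have h2 := isSyntomic_of_algEquiv e.symm (isSyntomic_relGCIRing h1)
    rwa [show Ideal.Quotient.mk (Ideal.span (Set.range Gs)) hp = β (x * D') by rw [← hhp, hβ]; rfl] at h2
  let C := B ⧸ Ideal.span (Set.range G)
  let mkC : B →ₐ[R] C := Ideal.Quotient.mkₐ R _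
  let TS := Localization.Away (β (x * D'))
  let TC := Localization.Away (mkC (x * D'))
  haveI hTC : IsLocalization (Submonoid.powers (mkC (x * D'))) TC := Localization.isLocalization
  haveI : IsScalarTower R C TC := OreLocalization.instIsScalarTower
  let ι : B →ₐ[R] TS := (IsScalarTower.toAlgHom R S TS).comp β
  have hιu : IsUnit (ι D) := by
    have h1 : IsUnit (ι (x * D')) := IsLocalization.Away.algebraMap_isUnit (β (x * D'))
    simp only [D', map_mul, IsUnit.mul_iff] at h1
    exact h1.2.1.1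
  let δ : C →ₐ[R] TS := Ideal.Quotient.liftₐ _ ι (hkills ι hιu fun k => by simp [ι, hβg])
  obtain ⟨γ, hγ⟩ := exists_factor β hβs mkC (fun y hy => by
    obtain ⟨z, rfl⟩ := hπ y
    rw [hβ] at hy
    have hz : z ∈ Ideal.span (Set.range Gs) := Ideal.Quotient.eq_zero_iff_mem.1 hy
    refine (Ideal.span_le (I := RingHom.ker (mkC.comp π).toRingHom)).2 ?_ hz
    rintro _ ⟨i, rfl⟩
    show mkC (π (Gs i)) = 0
    induction i using Fin.addCases with
    | left i =>
      rw [show Gs (Fin.castAdd c i) = r i from Fin.append_left _ _ _]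
      have : r i ∈ RingHom.ker π.toRingHom := hr ▸ Ideal.subset_span ⟨i, rfl⟩
      rw [show π (r i) = 0 from this, map_zero]
    | right k =>
      rw [show Gs (Fin.natAdd N k) = gt k from Fin.append_right _ _ _, hgt]
      exact Ideal.Quotient.eq_zero_iff_mem.2 (hgG k))
  have hu1 : IsUnit ((IsScalarTower.toAlgHom R C TC).comp γ (β (x * D'))) := by
    show IsUnit (algebraMap C TC (γ (β (x * D'))))
    rw [hγ]; exact IsLocalization.Away.algebraMap_isUnit _
  have hu2 : IsUnit (δ (mkC (x * D'))) := IsLocalization.Away.algebraMap_isUnit (β (x * D'))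
  let fwd : TS →ₐ[R] TC :=
    IsLocalization.Away.liftAlgHom (β (x * D')) (f := (IsScalarTower.toAlgHom R C TC).comp γ) hu1
  let bwd : TC →ₐ[R] TS := IsLocalization.Away.liftAlgHom (mkC (x * D')) (f := δ) hu2
  have hf : ∀ y, fwd (algebraMap S TS y) = algebraMap C TC (γ y) := fun y =>
    IsLocalization.Away.lift_eq (β (x * D')) hu1 y
  have hb : ∀ y, bwd (algebraMap C TC y) = δ y := fun y => IsLocalization.Away.lift_eq (mkC (x * D')) hu2 y
  refine isSyntomic_of_algEquiv (T := TC) (AlgEquiv.ofAlgHom fwd bwd ?_ ?_) hS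
  · refine AlgHom.coe_ringHom_injective
      (IsLocalization.ringHom_ext (Submonoid.powers (mkC (x * D'))) (RingHom.ext fun y => ?_))
    obtain ⟨z, rfl⟩ := Ideal.Quotient.mk_surjective y
    show fwd (bwd (algebraMap C TC (mkC z))) = algebraMap C TC (mkC z)
    rw [hb]
    show fwd (algebraMap S TS (β z)) = _
    rw [hf, hγ]
  · refine IsLocalization.algHom_ext (Submonoid.powers (β (x * D'))) (AlgHom.ext fun y => ?_)
    obtain ⟨z, rfl⟩ := hβs y
    show bwd (fwd (algebraMap S TS (β z))) = algebraMap S TS (β z)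
    rw [hf, hγ, hb]
    rfl

theorem isSyntomic_of_subsingleton {R S : Type u} [CommRing R] [CommRing S] [Algebra R S] [Subsingleton S]
    [Algebra.FinitePresentation R S] : Synt.IsSyntomic R S := by
  refine ⟨inferInstance, inferInstance, fun p => ?_⟩
  haveI : Subsingleton (p.asIdeal.Fiber S) :=
    (Algebra.TensorProduct.includeRight : S →ₐ[R] p.asIdeal.Fiber S).toRingHom.codomain_trivial
  exact isLCIOver_of_subsingleton _ _

theorem exists_syntomic_lift {R A₀ : Type u} [CommRing R] (I : Ideal R) [CommRing A₀]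
    [Algebra (R ⧸ I) A₀] (h : Synt.IsSyntomic (R ⧸ I) A₀) :
    ∃ (A : Type u) (_ : CommRing A) (_ : Algebra R A), Synt.IsSyntomic R A ∧
      Nonempty ((A ⧸ I.map (algebraMap R A)) ≃ₐ[R ⧸ I] A₀) := by
  classical
  rcases subsingleton_or_nontrivial A₀ with h0 | h0
  · haveI : Subsingleton (Localization.Away (0 : R)) :=
      IsLocalization.subsingleton (M := Submonoid.powers (0 : R)) ⟨1, pow_one 0⟩
    haveI : Algebra.FinitePresentation R (Localization.Away (0 : R)) := IsLocalization.Away.finitePresentation 0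
    haveI : Subsingleton (Localization.Away (0 : R) ⧸ I.map (algebraMap R (Localization.Away (0 : R)))) :=
      Ideal.Quotient.mk_surjective.subsingleton
    exact ⟨Localization.Away (0 : R), inferInstance, inferInstance, isSyntomic_of_subsingleton,
      ⟨AlgEquiv.ofBijective
        ⟨⟨⟨⟨fun _ => 0, Subsingleton.elim _ _⟩, fun _ _ => Subsingleton.elim _ _⟩, Subsingleton.elim _ _,
          fun _ _ => Subsingleton.elim _ _⟩, fun _ => Subsingleton.elim _ _⟩
        ⟨fun _ _ _ => Subsingleton.elim _ _, fun _ => ⟨0, Subsingleton.elim _ _⟩⟩⟩⟩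
  letI : Algebra R A₀ := Algebra.compHom A₀ (algebraMap R (R ⧸ I))
  haveI : IsScalarTower R (R ⧸ I) A₀ := IsScalarTower.of_algebraMap_eq fun _ => rfl
  haveI := h.2.1
  obtain ⟨n, φ₀, hφ₀, hfg⟩ := Algebra.FinitePresentation.out (R := R ⧸ I) (A := A₀)
  obtain ⟨m, f₀, hf₀⟩ := Submodule.fg_iff_exists_fin_generating_family.1 hfg
  have hker₀ : RingHom.ker φ₀.toRingHom = Ideal.span (Set.range f₀) := hf₀.symm
  obtain ⟨E₀, hE₀, hrow, hsyz⟩ := exists_projector h φ₀ hφ₀ f₀ hker₀
  have hfz : ∀ j, φ₀ (f₀ j) = 0 := fun j => hf₀.le (Ideal.subset_span ⟨j, rfl⟩)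
  let μ : MvPolynomial (Fin n) R →+* MvPolynomial (Fin n) (R ⧸ I) := MvPolynomial.map (Ideal.Quotient.mk I)
  have hμ : Function.Surjective μ := MvPolynomial.map_surjective _ Ideal.Quotient.mk_surjective
  have hkμ : ∀ x, μ x = 0 → x ∈ I.map (algebraMap R (MvPolynomial (Fin n) R)) := by
    intro x hx
    rw [MvPolynomial.algebraMap_eq, MvPolynomial.mem_map_C_iff]
    intro k
    have := congrArg (MvPolynomial.coeff k) hx
    rwa [MvPolynomial.coeff_map, MvPolynomial.coeff_zero, Ideal.Quotient.eq_zero_iff_mem] at this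
  choose f hf using fun j => hμ (f₀ j)
  have hlift : ∀ (x : MvPolynomial (Fin n) R) (k : ℕ), μ x ∈ Ideal.span (Set.range f₀) ^ k →
      x ∈ I.map (algebraMap R (MvPolynomial (Fin n) R)) ⊔ Ideal.span (Set.range f) ^ k := by
    intro x k hx
    have hx' : μ x ∈ (Ideal.span (Set.range f) ^ k).map μ := by
      rw [Ideal.map_pow, Ideal.map_span, ← Set.range_comp, show μ ∘ f = f₀ from funext hf]
      exact hx
    obtain ⟨q, hq, hqx⟩ := (Ideal.mem_map_iff_of_surjective μ hμ).1 hx'
    rw [show x = (x - q) + q by ring]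
    exact Submodule.add_mem_sup (hkμ _ (by rw [map_sub, hqx, sub_self])) hq
  letI : Algebra (MvPolynomial (Fin n) R) A₀ := (φ₀.toRingHom.comp μ).toAlgebra
  haveI : IsScalarTower R (MvPolynomial (Fin n) R) A₀ := IsScalarTower.of_algebraMap_eq fun r => by
    change algebraMap R A₀ r = φ₀ (μ (MvPolynomial.C r))
    rw [MvPolynomial.map_C, ← MvPolynomial.algebraMap_eq, φ₀.commutes]
    rfl
  obtain ⟨B, _, _, θP, W, d, gg, hEt, hW, hθW, hgg, hdec, hL⟩ :=
    exists_idem_cover (P := MvPolynomial (Fin n) R) (hφ₀.comp hμ) E₀ hE₀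
  letI : Algebra R B := Algebra.compHom B (algebraMap R (MvPolynomial (Fin n) R))
  haveI : IsScalarTower R (MvPolynomial (Fin n) R) B := IsScalarTower.of_algebraMap_eq fun _ => rfl
  obtain ⟨N, r, π, hπ, hr⟩ := exists_presentation_of_etale (R := R) (B := B) (n := n)
  let θ : B →ₐ[R] A₀ := θP.restrictScalars R
  let j : MvPolynomial (Fin n) R →+* B := algebraMap _ B
  have hθj : ∀ x, θ (j x) = φ₀ (μ x) := θP.commutes
  have hθs : Function.Surjective θ := fun a => by
    obtain ⟨p, rfl⟩ := (hφ₀.comp hμ) a; exact ⟨j p, hθj p⟩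
  have hjI : (I.map (algebraMap R (MvPolynomial (Fin n) R))).map j = I.map (algebraMap R B) := by
    rw [Ideal.map_map]
    exact congrArg (Ideal.map · I) (IsScalarTower.algebraMap_eq R (MvPolynomial (Fin n) R) B).symm
  let F : Fin m → B := fun i => j (f i)
  let G : Fin m → B := Matrix.mulVec W F
  have hWG : Matrix.mulVec W G = G := by
    show Matrix.mulVec W (Matrix.mulVec W F) = Matrix.mulVec W F
    rw [Matrix.mulVec_mulVec, hW]
  have hF0 : ∀ i, θ (F i) = 0 := fun i => by rw [hθj, hf, hfz]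
  have hG0 : ∀ l, θ (G l) = 0 := fun l => by simp [G, Matrix.mulVec, dotProduct, hF0]
  let K : Ideal B := RingHom.ker θ.toRingHom
  have hIK : I.map (algebraMap R B) ≤ K := by
    rw [Ideal.map_le_iff_le_comap]
    intro x hx
    change θ (algebraMap R B x) = 0
    rw [θ.commutes, IsScalarTower.algebraMap_apply R (R ⧸ I) A₀, Ideal.Quotient.algebraMap_eq,
      Ideal.Quotient.eq_zero_iff_mem.2 hx, map_zero]
  let H : Ideal B := I.map (algebraMap R B) ⊔ Ideal.span (Set.range G)
  have hHK : H ≤ K := sup_le hIK (by rw [Ideal.span_le]; rintro _ ⟨l, rfl⟩; exact hG0 l)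
  have hPB : ∀ p, φ₀ (μ p) = 0 → j p ∈ I.map (algebraMap R B) ⊔ Ideal.span (Set.range F) := fun p hp => by
    have h1 := hlift p 1 (by rw [pow_one]; exact hker₀.le hp)
    have h2 := Ideal.mem_map_of_mem j h1
    rwa [pow_one, Ideal.map_sup, hjI, Ideal.map_span, ← Set.range_comp] at h2
  let s : Fin m ⊕ Fin d → B := Sum.elim F gg
  have hsK : ∀ i, s i ∈ K := by rintro (i | i); exacts [hF0 i, hgg i]
  have hgK : Ideal.span (Set.range gg) ≤ K := by rw [Ideal.span_le]; rintro _ ⟨i, rfl⟩; exact hgg i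
  have hKs : K ≤ H ⊔ Ideal.span (Set.range s) := fun b hb => by
    obtain ⟨p, hp⟩ := hdec b
    have hp0 : φ₀ (μ p) = 0 := by
      rw [← hθj]
      have : θ (b - j p) = 0 := hgK hp
      rw [map_sub, show θ b = 0 from hb, zero_sub, neg_eq_zero] at this
      exact this
    rw [← sub_add_cancel b (j p)]
    refine add_mem (Ideal.mem_sup_right (Ideal.span_mono ?_ hp))
      (SetLike.le_def.1 (sup_le_sup le_sup_left (Ideal.span_mono ?_)) (hPB p hp0))
    · rintro _ ⟨i, rfl⟩; exact ⟨Sum.inr i, rfl⟩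
    · rintro _ ⟨i, rfl⟩; exact ⟨Sum.inl i, rfl⟩
  have hF : ∀ l, F l ∈ H ⊔ K ^ 2 := by
    intro l
    obtain ⟨v, hv, hmem⟩ := hrow l
    choose cc hcc using fun i => hμ (v i)
    have hy : j (∑ i, cc i * f i) ∈ I.map (algebraMap R B) ⊔ K ^ 2 := by
      have h1 := hlift (∑ i, cc i * f i) 2 (by simpa [hcc, hf] using hmem)
      have h2 := Ideal.mem_map_of_mem j h1
      rw [Ideal.map_sup, hjI, Ideal.map_pow, Ideal.map_span, ← Set.range_comp] at h2
      refine SetLike.le_def.1 (sup_le_sup le_rfl (Ideal.pow_right_mono ?_ 2)) h2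
      rw [Ideal.span_le]; rintro _ ⟨i, rfl⟩; exact hF0 i
    have hd1 : F l - G l - j (∑ i, cc i * f i) ∈ K ^ 2 := by
      have he : F l - G l - j (∑ i, cc i * f i) =
          ∑ i, (((1 : Matrix (Fin m) (Fin m) B) - W) l i - j (cc i)) * F i := by
        simp only [G, Matrix.mulVec, dotProduct, F, map_sum, map_mul, sub_mul, Finset.sum_sub_distrib, Matrix.sub_apply,
          Matrix.one_apply, ite_mul, one_mul, zero_mul, Finset.sum_ite_eq, Finset.mem_univ, if_true]
      rw [he, pow_two]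
      refine Ideal.sum_mem _ fun i _ => Ideal.mul_mem_mul ?_ (hF0 i)
      change θ _ = 0
      rw [map_sub, hθj, hcc, hv, sub_eq_zero]
      show θ (((1 : Matrix (Fin m) (Fin m) B) - W) l i) = ((1 : Matrix (Fin m) (Fin m) A₀) - E₀) l i
      rw [Matrix.sub_apply, Matrix.sub_apply, map_sub, ← hθW, Matrix.map_apply]
      congr 1
      simp [Matrix.one_apply, apply_ite θ]
    rw [show F l = (G l + j (∑ i, cc i * f i)) + (F l - G l - j (∑ i, cc i * f i)) by ring]
    refine add_mem (add_mem (Ideal.mem_sup_left (Ideal.mem_sup_right (Ideal.subset_span ⟨l, rfl⟩))) ?_)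
      (Ideal.mem_sup_right hd1)
    exact SetLike.le_def.1 (sup_le_sup le_sup_left le_rfl) hy
  have hgL : ∀ i, gg i ∈ H ⊔ K ^ 2 := hL _
    (fun p hp => SetLike.le_def.1 (sup_le (le_sup_left.trans le_sup_left)
      (by rw [Ideal.span_le]; rintro _ ⟨i, rfl⟩; exact hF i)) (hPB p hp))
    (fun i i' => Ideal.mem_sup_right (by rw [pow_two]; exact Ideal.mul_mem_mul (hgg i) (hgg i')))
  obtain ⟨u, hu, hu'⟩ := exists_nakayama H K hHK s hKs hsK
    (hKs.trans (sup_le le_sup_left (by rw [Ideal.span_le]; rintro _ ⟨i | i, rfl⟩; exacts [hF i, hgL i])))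
  have hu1 : θ u = 1 := by
    have : θ (u - 1) = 0 := hu
    rwa [map_sub, map_one, sub_eq_zero] at this
  let C := B ⧸ Ideal.span (Set.range G)
  let mkC : B →ₐ[R] C := Ideal.Quotient.mkₐ R _
  let θC : C →ₐ[R] A₀ := Ideal.Quotient.liftₐ _ θ (fun x hx => by
    have : Ideal.span (Set.range G) ≤ RingHom.ker θ.toRingHom := by
      rw [Ideal.span_le]; rintro _ ⟨l, rfl⟩; exact hG0 l
    exact this hx)
  have hθCs : Function.Surjective θC := fun a => by
    obtain ⟨b, rfl⟩ := hθs a; exact ⟨mkC b, rfl⟩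
  let good : Set C := {x | Synt.IsSyntomic R (Localization.Away x)}
  have hJ : (Ideal.span good).map θC.toRingHom = ⊤ := by
    by_contra hne
    obtain ⟨q, hq, hle⟩ := Ideal.exists_le_maximal _ hne
    obtain ⟨g, hg, hgs⟩ := exists_syntomic_nhd I h φ₀ hφ₀ f₀ hker₀ E₀ hsyz π hπ r hr θ hθs W hθW G hWG hG0 u hu1
      (fun b hb => hu' b hb) ⟨q, hq.isPrime⟩
    exact hg (hle (Ideal.mem_map_of_mem θC.toRingHom (Ideal.subset_span (show mkC g ∈ good from hgs))))
  obtain ⟨j₀, hj₀, hj₁⟩ := (Ideal.mem_map_iff_of_surjective θC.toRingHom hθCs).1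
    (hJ ▸ Submodule.mem_top : (1 : A₀) ∈ (Ideal.span good).map θC.toRingHom)
  let w : C := mkC u * j₀
  let A := Localization.Away w
  have hw : θC w = 1 := by
    show θC (mkC u * j₀) = 1
    rw [map_mul, show θC j₀ = 1 from hj₁, mul_one]
    exact hu1
  refine ⟨A, inferInstance, inferInstance, ?_, ?_⟩
  · refine isSyntomic_of_span (algebraMap C A '' good) ?_ ?_
    · rw [← Ideal.map_span]
      refine Ideal.eq_top_of_isUnit_mem _ (Ideal.mem_map_of_mem _ (Ideal.mul_mem_left _ (mkC u) hj₀)) ?_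
      exact IsLocalization.Away.algebraMap_isUnit w
    · rintro _ ⟨x, hx, rfl⟩
      let T := Localization.Away (algebraMap C (Localization.Away x) w)
      haveI : IsLocalization.Away (x * w) T := IsLocalization.Away.mul' (Localization.Away x) T x w
      haveI : IsLocalization.Away (x * w) (Localization.Away (algebraMap C A x)) :=
        IsLocalization.Away.mul A (Localization.Away (algebraMap C A x)) w x
      exact isSyntomic_of_algEquiv
        ((IsLocalization.algEquiv (Submonoid.powers (x * w)) T (Localization.Away (algebraMap C A x))).restrictScalars R)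
        (isSyntomic_away_target hx (algebraMap C (Localization.Away x) w) T)
  · have hwu : IsUnit (θC w) := by rw [hw]; exact isUnit_one
    let θA : A →ₐ[R] A₀ := IsLocalization.Away.liftAlgHom w (f := θC) hwu
    have hθA : ∀ y, θA (algebraMap C A y) = θC y := fun y => IsLocalization.Away.lift_eq w hwu y
    have hker : RingHom.ker θA.toRingHom = I.map (algebraMap R A) := by
      refine le_antisymm (fun a ha => ?_) ?_
      · obtain ⟨k, c, hc⟩ := IsLocalization.Away.surj w a
        obtain ⟨b, rfl⟩ := Ideal.Quotient.mk_surjective c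
        have hb : θ b = 0 := by
          have h1 := congrArg θA hc
          rw [map_mul, show θA a = 0 from ha, zero_mul, hθA] at h1
          exact h1.symm
        let ν : B →ₐ[R] A := (IsScalarTower.toAlgHom R C A).comp mkC
        have h2 : ν (u * b) ∈ I.map (algebraMap R A) := by
          have h3 : (I.map (algebraMap R B) ⊔ Ideal.span (Set.range G)).map ν.toRingHom ≤ I.map (algebraMap R A) := by
            rw [Ideal.map_sup, Ideal.map_map]
            refine sup_le (le_of_eq (congrArg (Ideal.map · I) ν.comp_algebraMap)) ?_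
            rw [Ideal.map_span, Ideal.span_le]
            rintro _ ⟨_, ⟨l, rfl⟩, rfl⟩
            show algebraMap C A (mkC (G l)) ∈ _
            rw [show mkC (G l) = 0 from Ideal.Quotient.eq_zero_iff_mem.2 (Ideal.subset_span ⟨l, rfl⟩), map_zero]
            exact zero_mem _
          exact h3 (Ideal.mem_map_of_mem _ (hu' b hb))
        have hu2 : IsUnit (ν u) := by
          have : IsUnit (algebraMap C A w) := IsLocalization.Away.algebraMap_isUnit w
          simp only [w, map_mul, IsUnit.mul_iff] at this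
          exact this.1
        rw [map_mul, Ideal.unit_mul_mem_iff_mem _ hu2] at h2
        have hwA : IsUnit (algebraMap C A w ^ k) := (IsLocalization.Away.algebraMap_isUnit w).pow k
        rw [← Ideal.mul_unit_mem_iff_mem _ hwA, hc]
        exact h2
      · rw [Ideal.map_le_iff_le_comap]
        intro x hx
        show θA (algebraMap R A x) = 0
        rw [θA.commutes, IsScalarTower.algebraMap_apply R (R ⧸ I) A₀, Ideal.Quotient.algebraMap_eq,
          Ideal.Quotient.eq_zero_iff_mem.2 hx, map_zero]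
    have hθAs : Function.Surjective θA := fun a => by
      obtain ⟨c, rfl⟩ := hθCs a; exact ⟨algebraMap C A c, hθA c⟩
    refine ⟨AlgEquiv.ofRingEquiv (f := (Ideal.quotEquivOfEq hker.symm).trans
      (RingHom.quotientKerEquivOfSurjective (f := θA.toRingHom) hθAs)) ?_⟩
    intro x
    obtain ⟨x, rfl⟩ := Ideal.Quotient.mk_surjective x
    exact θA.commutes x

end Groth.Agent.SynLift
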