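import Groth.Agent.SynLift.Lift

/-!
# A syntomic algebra is a retract of a relative global complete intersection smooth over it
-/

universe u

open MvPolynomial TensorProduct Groth.Agent.Synt29 Groth.Agent.SmoothingLib

set_option linter.style.haveILetI false

namespace Groth.Agent.SynLift

variable {R A : Type u} [CommRing R] [CommRing A] [Algebra R A] {n m : ℕ}
  {φ : MvPolynomial (Fin n) R →ₐ[R] A} {f : Fin m → MvPolynomial (Fin n) R}

theorem symIdeal_eq_span (E : Matrix (Fin m) (Fin m) A) (hrow : ∀ l, (fun j => (1 - E) l j) ∈ syz φ f)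
    (hsyz : ∀ v ∈ syz φ f, Matrix.vecMul v E = 0) :
    symIdeal φ f = Ideal.span (Set.range fun l => ∑ j, MvPolynomial.C ((1 - E) l j) * MvPolynomial.X j) := by
  refine le_antisymm (Ideal.span_le.2 ?_) (Ideal.span_le.2 ?_)
  · rintro _ ⟨v, hv, rfl⟩
    have hv' : Matrix.vecMul v (1 - E) = v := by rw [Matrix.vecMul_sub, hsyz v hv, Matrix.vecMul_one, sub_zero]
    show (∑ j, C (v j) * X j) ∈ _
    rw [show (∑ j, C (v j) * X j : MvPolynomial (Fin m) A) = ∑ l, C (v l) * ∑ j, C ((1 - E) l j) * X j by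
      conv_lhs => enter [2, j]; rw [← congrFun hv' j]
      simp only [Matrix.vecMul, dotProduct, map_sum, map_mul, Finset.sum_mul, Finset.mul_sum, mul_assoc]
      exact Finset.sum_comm]
    exact Ideal.sum_mem _ fun l _ => Ideal.mul_mem_left _ _ (Ideal.subset_span (Set.mem_range_self l))
  · rintro _ ⟨l, rfl⟩
    exact Ideal.subset_span ⟨_, hrow l, rfl⟩

theorem smooth_symConormal (E : Matrix (Fin m) (Fin m) A) (hrow : ∀ l, (fun j => (1 - E) l j) ∈ syz φ f)
    (hsyz : ∀ v ∈ syz φ f, Matrix.vecMul v E = 0) : Algebra.Smooth A (SymConormal φ f) := by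
  haveI : Algebra.FinitePresentation A (SymConormal φ f) := Algebra.FinitePresentation.quotient
    (by rw [symIdeal_eq_span E hrow hsyz]; exact Submodule.fg_span (Set.finite_range _))
  obtain ⟨s, hs⟩ := exists_symLift φ f (MvPolynomial (Fin m) A) (fun j => ∑ k, C (E j k) * X k) (fun c hc => by
    simp only [Finset.mul_sum, ← mul_assoc, MvPolynomial.algebraMap_eq, ← map_mul]
    rw [Finset.sum_comm]
    refine Finset.sum_eq_zero fun k _ => ?_
    rw [← Finset.sum_mul, ← map_sum, show ∑ j, c j * E j k = 0 from congrFun (hsyz c hc) k, map_zero, zero_mul])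
  let p : MvPolynomial (Fin m) A →ₐ[A] SymConormal φ f := Ideal.Quotient.mkₐ A _
  have hps : p.comp s = AlgHom.id A _ := by
    refine AlgHom.ext_of_adjoin_eq_top (adjoin_symY φ f) ?_
    rintro _ ⟨j, rfl⟩
    show p (s (symY φ f j)) = symY φ f j
    rw [hs]
    refine Ideal.Quotient.eq.2 ?_
    have : (∑ k, C (E j k) * X k : MvPolynomial (Fin m) A) - X j = -(∑ k, C ((1 - E) j k) * X k) := by
      simp only [Matrix.sub_apply, map_sub, sub_mul, Finset.sum_sub_distrib, Matrix.one_apply, apply_ite C, C_1, C_0,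
        ite_mul, one_mul, zero_mul, Finset.sum_ite_eq, Finset.mem_univ, if_true, neg_sub]
    rw [this]
    exact neg_mem (Ideal.subset_span ⟨_, hrow j, rfl⟩)
  haveI : Algebra.FormallySmooth A (SymConormal φ f) :=
    Algebra.FormallySmooth.of_split p ((Ideal.Quotient.mkₐ A _).comp s) (by rw [← hps]; ext x; rfl)
  exact ⟨inferInstance, inferInstance⟩

set_option maxHeartbeats 1000000 in
theorem exists_relGCI_symConormal (h : Synt.IsSyntomic R A) (hφ : Function.Surjective φ)
    (hker : RingHom.ker φ.toRingHom = Ideal.span (Set.range f))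
    (E : Matrix (Fin m) (Fin m) A) (hE : E * E = E) (hrow : ∀ l, (fun j => (1 - E) l j) ∈ syz φ f)
    (hsyz : ∀ v ∈ syz φ f, Matrix.vecMul v E = 0) :
    ∃ F : Fin (m + 1) → MvPolynomial (Fin (n + m + 1)) R, Synt.IsRelGCI R (n + m + 1) (m + 1) F ∧
      Nonempty (SymConormal φ f ≃ₐ[R] Synt.RelGCIRing R (n + m + 1) (m + 1) F) := by
  classical
  let ι : MvPolynomial (Fin n) R →ₐ[R] MvPolynomial (Fin (n + m)) R := rename (Fin.castAdd m)
  let y : Fin m → MvPolynomial (Fin (n + m)) R := fun j => X (Fin.natAdd n j)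
  choose v hv hvmem using hrow
  let Q : Matrix (Fin m) (Fin m) (MvPolynomial (Fin (n + m)) R) := Matrix.of fun l j => ι (v l j)
  let f' : Fin m → MvPolynomial (Fin (n + m)) R := fun j => ι (f j)
  let r : Fin m → MvPolynomial (Fin (n + m)) R := Matrix.mulVec Q y
  let Φ : MvPolynomial (Fin (n + m)) R →ₐ[R] SymConormal φ f :=
    aeval (Fin.append (fun i => algebraMap A (SymConormal φ f) (φ (X i))) (symY φ f))
  have hΦι : ∀ x, Φ (ι x) = algebraMap A (SymConormal φ f) (φ x) := fun x => by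
    have : Φ.comp ι = (IsScalarTower.toAlgHom R A (SymConormal φ f)).comp φ :=
      MvPolynomial.algHom_ext fun i => by simp [Φ, ι]
    exact AlgHom.congr_fun this x
  have hΦy : ∀ j, Φ (y j) = symY φ f j := fun j => by simp [Φ, y]
  have hΦf : ∀ j, Φ (f' j) = 0 := fun j => by
    rw [hΦι, show φ (f j) = 0 from (hker ▸ Ideal.subset_span ⟨j, rfl⟩ : f j ∈ RingHom.ker φ.toRingHom), map_zero]
  have hΦr : ∀ l, Φ (r l) = 0 := fun l => by
    show Φ (∑ j, ι (v l j) * y j) = 0
    simp only [map_sum, map_mul, hΦι, hΦy, hv]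
    have h0 : Ideal.Quotient.mk (symIdeal φ f) (∑ j, C ((1 - E) l j) * X j) = 0 :=
      Ideal.Quotient.eq_zero_iff_mem.2 (Ideal.subset_span ⟨_, ⟨v l, hv l, hvmem l⟩, rfl⟩)
    rw [map_sum] at h0
    exact h0
  let Jf : Ideal (MvPolynomial (Fin (n + m)) R) := Ideal.span (Set.range f')
  let Kd : Ideal (MvPolynomial (Fin (n + m)) R) := Jf ⊔ Ideal.span (Set.range r)
  have hιJ : ∀ x, φ x = 0 → ι x ∈ Jf := fun x hx => by
    have h1 := Ideal.mem_map_of_mem ι.toRingHom (hker.le (hx : x ∈ RingHom.ker φ.toRingHom))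
    rwa [Ideal.map_span, ← Set.range_comp] at h1
  let K : Ideal (MvPolynomial (Fin (n + m)) R) := RingHom.ker Φ.toRingHom
  have hKd : Kd ≤ K := sup_le (Ideal.span_le.2 (by rintro _ ⟨j, rfl⟩; exact hΦf j))
    (Ideal.span_le.2 (by rintro _ ⟨j, rfl⟩; exact hΦr j))
  have hK : K ≤ Kd := by
    let mk : MvPolynomial (Fin (n + m)) R →ₐ[R] MvPolynomial (Fin (n + m)) R ⧸ Kd := Ideal.Quotient.mkₐ R Kd
    obtain ⟨χ, hχ⟩ := exists_factor φ hφ (mk.comp ι) (fun x hx =>
      Ideal.Quotient.eq_zero_iff_mem.2 (Ideal.mem_sup_left (hιJ x hx)))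
    letI : Algebra A (MvPolynomial (Fin (n + m)) R ⧸ Kd) := χ.toRingHom.toAlgebra
    haveI : IsScalarTower R A (MvPolynomial (Fin (n + m)) R ⧸ Kd) :=
      IsScalarTower.of_algebraMap_eq fun x => (χ.commutes x).symm
    obtain ⟨g, hg⟩ := exists_symLift φ f (MvPolynomial (Fin (n + m)) R ⧸ Kd) (fun j => mk (y j)) (fun c hc => by
      have hc' : Matrix.vecMul c (1 - E) = c := by rw [Matrix.vecMul_sub, hsyz c hc, Matrix.vecMul_one, sub_zero]
      rw [show ∑ j, algebraMap A _ (c j) * mk (y j) = ∑ l, χ (c l) * mk (r l) by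
        conv_lhs => enter [2, j]; rw [← congrFun hc' j]
        simp only [Matrix.vecMul, dotProduct, r, Matrix.mulVec, Q, Matrix.of_apply, map_sum, map_mul, Finset.sum_mul,
          Finset.mul_sum]
        rw [Finset.sum_comm]
        refine Finset.sum_congr rfl fun l _ => Finset.sum_congr rfl fun j _ => ?_
        rw [show mk (ι (v l j)) = χ (φ (v l j)) from (hχ _).symm, hv, mul_assoc]
        rfl]
      refine Finset.sum_eq_zero fun l _ => ?_
      rw [show mk (r l) = 0 from Ideal.Quotient.eq_zero_iff_mem.2 (Ideal.mem_sup_right (Ideal.subset_span ⟨l, rfl⟩)),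
        mul_zero])
    have hgΦ : (g.restrictScalars R).comp Φ = mk := MvPolynomial.algHom_ext fun i => by
      induction i using Fin.addCases with
      | left i =>
        show g (Φ (X (Fin.castAdd m i))) = mk (X (Fin.castAdd m i))
        rw [show (X (Fin.castAdd m i) : MvPolynomial (Fin (n + m)) R) = ι (X i) from (rename_X _ i).symm, hΦι,
          g.commutes]
        exact hχ (X i)
      | right j =>
        show g (Φ (y j)) = mk (y j)
        rw [hΦy, hg]
    intro x hx
    refine Ideal.Quotient.eq_zero_iff_mem.1 ?_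
    show mk x = 0
    rw [← hgΦ]
    show g (Φ x) = 0
    rw [show Φ x = 0 from hx, map_zero]
  have hΦs : Function.Surjective Φ := by
    intro z
    suffices hz : z ∈ Φ.range by exact hz
    have hc : z ∈ Algebra.adjoin A (Set.range (symY φ f)) := adjoin_symY φ f ▸ Algebra.mem_top
    induction hc using Algebra.adjoin_induction with
    | mem x hx => obtain ⟨j, rfl⟩ := hx; exact ⟨y j, hΦy j⟩
    | algebraMap a => obtain ⟨x, rfl⟩ := hφ a; exact ⟨ι x, hΦι x⟩
    | add a b _ _ ha hb => exact add_mem ha hb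
    | mul a b _ _ ha hb => exact mul_mem ha hb
  let hh : Fin m → MvPolynomial (Fin (n + m)) R := Matrix.mulVec (1 - Q) f' + Matrix.mulVec Q r
  have hmv : ∀ {X Y : Ideal (MvPolynomial (Fin (n + m)) R)} (M : Matrix (Fin m) (Fin m) (MvPolynomial (Fin (n + m)) R))
      (w : Fin m → MvPolynomial (Fin (n + m)) R), (∀ i j, M i j ∈ X) → (∀ j, w j ∈ Y) →
      ∀ i, Matrix.mulVec M w i ∈ X * Y :=
    fun M w hM hw i => by
      show ∑ j, M i j * w j ∈ _
      exact Ideal.sum_mem _ fun j _ => Ideal.mul_mem_mul (hM i j) (hw j)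
  let Hd : Ideal (MvPolynomial (Fin (n + m)) R) := Ideal.span (Set.range hh)
  have hhK : Hd ≤ K := by
    rw [Ideal.span_le]
    rintro _ ⟨l, rfl⟩
    show (∑ j, (1 - Q) l j * f' j) + ∑ j, Q l j * r j ∈ K
    exact add_mem (Ideal.sum_mem _ fun j _ => Ideal.mul_mem_left _ _ (hΦf j))
      (Ideal.sum_mem _ fun j _ => Ideal.mul_mem_left _ _ (hΦr j))
  have hQQ : ∀ i j, ((1 - Q) * Q) i j ∈ Jf := fun i j => by
    have h0 : (((1 : Matrix (Fin m) (Fin m) (MvPolynomial (Fin n) R)) - Matrix.of v) * Matrix.of v) i j ∈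
        RingHom.ker φ.toRingHom := by
      show φ _ = 0
      have h1 : φ.mapMatrix (Matrix.of v) = 1 - E := Matrix.ext fun a b => hv a b
      have h2 : φ.mapMatrix ((1 - Matrix.of v) * Matrix.of v) = 0 := by
        rw [map_mul, map_sub, map_one, h1, sub_sub_cancel, Matrix.mul_sub, Matrix.mul_one, hE, sub_self]
      exact congrFun (congrFun h2 i) j
    have h3 : (1 - Q) * Q = ι.mapMatrix ((1 - Matrix.of v) * Matrix.of v) := by
      rw [map_mul, map_sub, map_one]; rfl
    rw [h3]
    exact hιJ _ h0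
  have hJK : Jf ≤ K := le_sup_left.trans hKd
  have hQf : ∀ l, Matrix.mulVec Q f' l ∈ K ^ 2 := fun l => by
    have h1 := Ideal.mem_map_of_mem ι.toRingHom (hvmem l)
    rw [Ideal.map_pow, Ideal.map_span, ← Set.range_comp] at h1
    refine Ideal.pow_right_mono hJK 2 ?_
    simpa [Matrix.mulVec, dotProduct, Q, f', Jf, Function.comp_def] using h1
  have hsub : ∀ (M : Matrix (Fin m) (Fin m) (MvPolynomial (Fin (n + m)) R)) l, Matrix.mulVec M hh l ∈ Hd :=
    fun M l => by
      show ∑ j, M l j * hh j ∈ _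
      exact Ideal.sum_mem _ fun j _ => Ideal.mul_mem_left _ _ (Ideal.subset_span (Set.mem_range_self j))
  have hf : ∀ l, f' l ∈ Hd ⊔ K ^ 2 := fun l => by
    have h1 : Matrix.mulVec (1 - Q) hh l = f' l - Matrix.mulVec Q f' l - Matrix.mulVec ((1 - Q) * Q) f' l +
        Matrix.mulVec ((1 - Q) * Q) r l := by
      have : Matrix.mulVec (1 - Q) hh = f' - Matrix.mulVec Q f' - Matrix.mulVec ((1 - Q) * Q) f' +
          Matrix.mulVec ((1 - Q) * Q) r := by
        simp only [hh, Matrix.mulVec_add, Matrix.mulVec_mulVec, Matrix.mul_sub, Matrix.sub_mul, Matrix.mul_one,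
          Matrix.one_mul, Matrix.sub_mulVec, Matrix.one_mulVec, Matrix.mulVec_sub]
      exact congrFun this l
    have h2 : ∀ w : Fin m → MvPolynomial (Fin (n + m)) R, (∀ j, w j ∈ K) → Matrix.mulVec ((1 - Q) * Q) w l ∈ K ^ 2 :=
      fun w hw => by rw [pow_two]; exact hmv _ w (fun i j => hJK (hQQ i j)) hw l
    rw [show f' l = Matrix.mulVec (1 - Q) hh l + (Matrix.mulVec Q f' l + Matrix.mulVec ((1 - Q) * Q) f' l -
      Matrix.mulVec ((1 - Q) * Q) r l) by rw [h1]; ring]
    exact Submodule.add_mem_sup (hsub _ l) (sub_mem (add_mem (hQf l) (h2 f' hΦf)) (h2 r hΦr))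
  have hr : ∀ l, r l ∈ Hd ⊔ K ^ 2 := fun l => by
    have h1 : r l = Matrix.mulVec Q hh l - Matrix.mulVec ((1 - Q) * Q) f' l + Matrix.mulVec ((1 - Q) * Q) r l +
        Matrix.mulVec ((1 - Q) * Q) y l := by
      have : r = Matrix.mulVec Q hh - Matrix.mulVec ((1 - Q) * Q) f' + Matrix.mulVec ((1 - Q) * Q) r +
          Matrix.mulVec ((1 - Q) * Q) y := by
        simp only [hh, r, Matrix.mulVec_add, Matrix.mulVec_mulVec, Matrix.mul_sub, Matrix.sub_mul, Matrix.mul_one,
          Matrix.one_mul, Matrix.sub_mulVec, Matrix.one_mulVec, Matrix.mulVec_sub, ← Matrix.mul_assoc]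
        abel
      exact congrFun this l
    rw [h1]
    refine add_mem (add_mem (sub_mem (Ideal.mem_sup_left (hsub _ l)) (Ideal.mem_sup_right ?_)) (Ideal.mem_sup_right ?_)) ?_
    · rw [pow_two]; exact hmv _ f' (fun i j => hJK (hQQ i j)) hΦf l
    · rw [pow_two]; exact hmv _ r (fun i j => hJK (hQQ i j)) hΦr l
    · refine Ideal.span_le.2 ?_ (Ideal.mul_le_left (hmv (Y := ⊤) _ y hQQ (fun _ => Submodule.mem_top) l))
      rintro _ ⟨j, rfl⟩; exact hf j
  let s : Fin m ⊕ Fin m → MvPolynomial (Fin (n + m)) R := Sum.elim f' r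
  have hsK : ∀ i, s i ∈ K := by rintro (i | i); exacts [hΦf i, hΦr i]
  obtain ⟨u, hu, hu'⟩ := exists_nakayama Hd K hhK s
    (hK.trans (sup_le (le_sup_of_le_right (Ideal.span_mono (by rintro _ ⟨i, rfl⟩; exact ⟨Sum.inl i, rfl⟩)))
      (le_sup_of_le_right (Ideal.span_mono (by rintro _ ⟨i, rfl⟩; exact ⟨Sum.inr i, rfl⟩))))) hsK
    (hK.trans (sup_le (Ideal.span_le.2 (by rintro _ ⟨i, rfl⟩; exact hf i))
      (Ideal.span_le.2 (by rintro _ ⟨i, rfl⟩; exact hr i))))
  have hu1 : Φ u = 1 := by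
    have : Φ (u - 1) = 0 := hu
    rwa [map_sub, map_one, sub_eq_zero] at this
  let S := Synt.RelGCIRing R (n + m) m hh
  let mkS : MvPolynomial (Fin (n + m)) R →ₐ[R] S := Ideal.Quotient.mkₐ R _
  let S' := Localization.Away (mkS u)
  let π : S →ₐ[R] SymConormal φ f := Ideal.Quotient.liftₐ _ Φ (fun x hx => hhK hx)
  have hπu : IsUnit (π (mkS u)) := by rw [show π (mkS u) = Φ u from rfl, hu1]; exact isUnit_one
  let fwd : S' →ₐ[R] SymConormal φ f := IsLocalization.Away.liftAlgHom (mkS u) (f := π) hπu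
  have hfwd : ∀ x, fwd (algebraMap S S' x) = π x := fun x => IsLocalization.Away.lift_eq (mkS u) hπu x
  obtain ⟨bwd, hbwd⟩ := exists_factor Φ hΦs ((IsScalarTower.toAlgHom R S S').comp mkS) (fun x hx => by
    show algebraMap S S' (mkS x) = 0
    have h1 : mkS (u * x) = 0 := Ideal.Quotient.eq_zero_iff_mem.2 (hu' x hx)
    have h2 := congrArg (algebraMap S S') h1
    rw [map_mul, map_mul, map_zero] at h2
    exact (IsLocalization.Away.algebraMap_isUnit (mkS u)).mul_right_eq_zero.1 h2)
  let eS : SymConormal φ f ≃ₐ[R] S' := AlgEquiv.ofAlgHom bwd fwd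
    (IsLocalization.algHom_ext (Submonoid.powers (mkS u)) (AlgHom.ext fun x => by
      obtain ⟨x, rfl⟩ := Ideal.Quotient.mk_surjective x
      show bwd (fwd (algebraMap S S' (mkS x))) = algebraMap S S' (mkS x)
      rw [hfwd]
      exact hbwd x))
    (AlgHom.ext fun z => by
      obtain ⟨x, rfl⟩ := hΦs z
      show fwd (bwd (Φ x)) = Φ x
      rw [hbwd]
      exact hfwd (mkS x))
  refine ⟨snocPoly hh u, isRelGCI_snoc hh (Nat.le_add_left m n) u ?_, ⟨eS.trans (awayEquiv hh u).some⟩⟩
  rw [Nat.add_sub_cancel]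
  intro P hP
  obtain ⟨PS, hPS⟩ : P ∈ Set.range (PrimeSpectrum.comap (algebraMap S S')) := by
    rw [PrimeSpectrum.localization_away_comap_range S' (mkS u)]; exact hP
  let PC : PrimeSpectrum (SymConormal φ f) := PrimeSpectrum.comap eS.toAlgHom.toRingHom PS
  have hPC : ∀ x, mkS x ∈ P.asIdeal ↔ Φ x ∈ PC.asIdeal := fun x => by
    rw [← hPS]
    show algebraMap S S' (mkS x) ∈ PS.asIdeal ↔ bwd (Φ x) ∈ PS.asIdeal
    rw [hbwd]; rfl
  let q : PrimeSpectrum A := PrimeSpectrum.comap (algebraMap A (SymConormal φ f)) PC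
  obtain ⟨c, hcn, F', H, hH, hF', hkill, hgci⟩ := exists_adapted h φ hφ q
  choose β hβ using fun k => Ideal.mem_span_range_iff_exists_fun.1 (hker.le (hF' k) : F' k ∈ Ideal.span (Set.range f))
  choose α hα using fun l => Ideal.mem_span_range_iff_exists_fun.1 (hkill (f l) (by
    have : f l ∈ RingHom.ker φ.toRingHom := hker ▸ Ideal.subset_span ⟨l, rfl⟩
    exact this))
  have hLrow : ∀ l, (fun j => φ ((if l = j then H else 0) - ∑ k, α l k * β k j)) ∈ syz φ f := fun l => by
    refine ⟨fun j => (if l = j then H else 0) - ∑ k, α l k * β k j, fun j => rfl, ?_⟩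
    have h0 : ∑ j, ((if l = j then H else 0) - ∑ k, α l k * β k j) * f j = 0 := by
      simp only [sub_mul, Finset.sum_sub_distrib, ite_mul, zero_mul, Finset.sum_ite_eq, Finset.mem_univ, if_true,
        Finset.sum_mul, mul_assoc]
      rw [Finset.sum_comm]
      simp only [← Finset.mul_sum, hβ]
      rw [sub_eq_zero]
      exact (hα l).symm
    rw [h0]; exact zero_mem _
  let z : Fin c → SymConormal φ f := fun k => ∑ j, algebraMap A _ (φ (β k j)) * symY φ f j
  have hyz : ∀ l, algebraMap A (SymConormal φ f) (φ H) * symY φ f l = ∑ k, algebraMap A _ (φ (α l k)) * z k := by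
    intro l
    have h0 : Ideal.Quotient.mk (symIdeal φ f)
        (∑ j, C (φ ((if l = j then H else 0) - ∑ k, α l k * β k j)) * X j) = 0 :=
      Ideal.Quotient.eq_zero_iff_mem.2 (Ideal.subset_span ⟨_, hLrow l, rfl⟩)
    rw [map_sum] at h0
    have h1 : ∑ j, algebraMap A (SymConormal φ f) (φ ((if l = j then H else 0) - ∑ k, α l k * β k j)) * symY φ f j = 0 := h0
    simp only [map_sub, sub_mul, Finset.sum_sub_distrib, apply_ite φ, map_zero, apply_ite (algebraMap A (SymConormal φ f)),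
      ite_mul, zero_mul, Finset.sum_ite_eq, Finset.mem_univ, if_true, sub_eq_zero] at h1
    rw [h1]
    simp only [z, map_sum, map_mul, Finset.sum_mul, Finset.mul_sum, mul_assoc]
    exact Finset.sum_comm
  let D : S := mkS (u * ι H)
  let T := Localization.Away D
  obtain ⟨PT, hPT⟩ : P ∈ Set.range (PrimeSpectrum.comap (algebraMap S T)) := by
    rw [PrimeSpectrum.localization_away_comap_range T D]
    show D ∉ P.asIdeal
    rw [hPC, map_mul, hu1, one_mul, hΦι]
    exact hH
  rw [← hPT]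
  haveI : Algebra.FiniteType R S := Algebra.FiniteType.of_surjective mkS Ideal.Quotient.mk_surjective
  haveI : Algebra.FiniteType S T := IsLocalization.finiteType_of_monoid_fg (Submonoid.powers D) T
  haveI : Algebra.FiniteType R T := Algebra.FiniteType.trans (S := S) inferInstance inferInstance
  refine goodLocus_of_away T D n PT (mem_goodLocus _ _ ?_)
  let p := PrimeSpectrum.comap (algebraMap R T) PT
  let k := p.asIdeal.ResidueField
  let Fib := p.asIdeal.Fiber T
  haveI hst : IsScalarTower R k Fib := TensorProduct.isScalarTower_left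
  let ε : MvPolynomial (Fin (n + m)) R →ₐ[R] Fib :=
    (Algebra.TensorProduct.includeRight.comp (IsScalarTower.toAlgHom R S T)).comp mkS
  have hεD : IsUnit (ε (u * ι H)) :=
    (IsLocalization.Away.algebraMap_isUnit (S := T) D).map (Algebra.TensorProduct.includeRight (A := k))
  rw [map_mul, IsUnit.mul_iff] at hεD
  obtain ⟨η, hη⟩ := exists_factor Φ hΦs ε (fun x hx => by
    have h1 : mkS (u * x) = 0 := Ideal.Quotient.eq_zero_iff_mem.2 (hu' x hx)
    have h2 : ε (u * x) = 0 := by
      show (Algebra.TensorProduct.includeRight : T →ₐ[R] Fib) (algebraMap S T (mkS (u * x))) = 0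
      rw [h1, map_zero, map_zero]
    rw [map_mul] at h2
    exact hεD.1.mul_right_eq_zero.1 h2)
  let ηA : A →ₐ[R] Fib := η.comp (IsScalarTower.toAlgHom R A (SymConormal φ f))
  have hηH : IsUnit (ηA (φ H)) := by
    show IsUnit (η (algebraMap A _ (φ H)))
    rw [← hΦι, hη]; exact hεD.2
  let t : Fib := ((hηH.unit⁻¹ : Fibˣ) : Fib)
  let G' : Fin (c + 1) → MvPolynomial (Fin (n + 1)) k := mapPoly R (snocPoly F' H) k
  have hG' : Synt.IsRelGCI k (n + 1) (c + 1) G' := isRelGCI_mapPoly hgci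
  let ψ : MvPolynomial (Fin (n + 1)) k →ₐ[k] Fib := aeval (Fin.snoc (fun i => ηA (φ (X i))) t)
  have hψ : ∀ x, ψ (MvPolynomial.map (algebraMap R k) (rename Fin.castSucc x)) = ηA (φ x) := by
    intro x
    have : (ψ.restrictScalars R).comp ((MvPolynomial.mapAlgHom (Algebra.ofId R k)).comp (rename Fin.castSucc)) =
        ηA.comp φ := MvPolynomial.algHom_ext fun i => by
      show ψ (MvPolynomial.map _ (rename Fin.castSucc (X i))) = ηA (φ (X i))
      simp [ψ]
    exact AlgHom.congr_fun this x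
  have hψt : ψ (X (Fin.last n)) = t := by simp [ψ]
  let X' := Synt.RelGCIRing k (n + 1) (c + 1) G'
  let ψ' : X' →ₐ[k] Fib := Ideal.Quotient.liftₐ _ ψ (fun x hx => by
    refine (Ideal.span_le (I := RingHom.ker ψ.toRingHom)).2 ?_ hx
    rintro _ ⟨i, rfl⟩
    show ψ (MvPolynomial.map _ (snocPoly F' H i)) = 0
    refine Fin.lastCases ?_ (fun l => ?_) i
    · simp only [snocPoly, Fin.snoc_last, map_sub, map_mul, map_one, hψ, MvPolynomial.map_X, hψt, t]
      rw [IsUnit.mul_val_inv, sub_self]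
    · simp only [snocPoly, Fin.snoc_castSucc, hψ, hF', map_zero])
  let Ψ : MvPolynomial (Fin c) X' →ₐ[k] Fib := aevalTower ψ' (fun k => η (z k))
  have hΨA : ∀ a, ηA a ∈ Ψ.range := fun a => by
    obtain ⟨x, rfl⟩ := hφ a
    exact ⟨C (Ideal.Quotient.mk _ (MvPolynomial.map (algebraMap R k) (rename Fin.castSucc x))),
      (aevalTower_C _ _ _).trans (hψ x)⟩
  have hΨt : t ∈ Ψ.range := ⟨C (Ideal.Quotient.mk _ (X (Fin.last n))), (aevalTower_C _ _ _).trans hψt⟩
  have hΨC : ∀ w, η w ∈ Ψ.range := fun w => by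
    have hc : w ∈ Algebra.adjoin A (Set.range (symY φ f)) := adjoin_symY φ f ▸ Algebra.mem_top
    induction hc using Algebra.adjoin_induction with
    | mem x hx =>
      obtain ⟨l, rfl⟩ := hx
      have h1 : η (symY φ f l) = t * ∑ i, ηA (φ (α l i)) * η (z i) := by
        have h2 := congrArg η (hyz l)
        rw [map_mul, map_sum] at h2
        rw [show (∑ i, ηA (φ (α l i)) * η (z i)) = ∑ i, η (algebraMap A _ (φ (α l i)) * z i) from
          Finset.sum_congr rfl fun i _ => (map_mul η _ _).symm, ← h2, ← mul_assoc,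
          show t * η (algebraMap A _ (φ H)) = 1 from IsUnit.val_inv_mul hηH, one_mul]
      rw [h1]
      exact mul_mem hΨt (sum_mem fun i _ => mul_mem (hΨA _) ⟨X i, aevalTower_X _ _ i⟩)
    | algebraMap a => exact hΨA a
    | add a b _ _ ha hb => rw [map_add]; exact add_mem ha hb
    | mul a b _ _ ha hb => rw [map_mul]; exact mul_mem ha hb
  have hΨs : Function.Surjective Ψ := by
    intro w
    suffices hw : w ∈ Ψ.range by exact hw
    induction w using TensorProduct.induction_on with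
    | zero => exact zero_mem _
    | tmul a b =>
      rw [show a ⊗ₜ[R] b = algebraMap k Fib a * ((1 : k) ⊗ₜ[R] b) by
        rw [← Algebra.smul_def, TensorProduct.smul_tmul', smul_eq_mul, mul_one]]
      refine mul_mem (Subalgebra.algebraMap_mem _ a) ?_
      obtain ⟨j, s, hs⟩ := IsLocalization.Away.surj D b
      obtain ⟨x, rfl⟩ := Ideal.Quotient.mk_surjective s
      have h1 : ((1 : k) ⊗ₜ[R] b) * ηA (φ H) ^ j = ε x := by
        have h2 : ε (u * ι H) = ηA (φ H) := by
          rw [← hη, map_mul Φ, hu1, one_mul, hΦι]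
          rfl
        rw [← h2]
        show _ * ((1 : k) ⊗ₜ[R] algebraMap S T D) ^ j = (1 : k) ⊗ₜ[R] algebraMap S T (Ideal.Quotient.mk _ x)
        rw [← hs, Algebra.TensorProduct.tmul_pow, Algebra.TensorProduct.tmul_mul_tmul, one_pow, one_mul]
      rw [show ((1 : k) ⊗ₜ[R] b) = ε x * t ^ j by
        rw [← h1, mul_assoc, ← mul_pow, IsUnit.mul_val_inv, one_pow, mul_one], ← hη]
      exact mul_mem (hΨC _) (pow_mem hΨt j)
    | add a b ha hb => exact add_mem ha hb
  refine (ringKrullDim_le_of_surjective Ψ.toRingHom hΨs).trans ?_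
  rw [MvPolynomial.ringKrullDim_of_isNoetherianRing]
  rcases subsingleton_or_nontrivial X' with hs | hs
  · rw [ringKrullDim_eq_bot_of_subsingleton]; simp
  let p₀ : PrimeSpectrum k := ⟨⊥, Ideal.isPrime_bot⟩
  have hinj : Function.Injective (Algebra.TensorProduct.includeRight : X' →ₐ[k] p₀.asIdeal.Fiber X') :=
    Algebra.TensorProduct.includeRight_injective (algebraMap k p₀.asIdeal.ResidueField).injective
  haveI : Nontrivial (p₀.asIdeal.Fiber X') := hinj.nontrivial
  haveI : Algebra.FiniteType k X' :=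
    Algebra.FiniteType.of_surjective (Ideal.Quotient.mkₐ k _) Ideal.Quotient.mk_surjective
  have h2 := (hG' p₀ inferInstance).2
  rw [ringKrullDim_tensor_field k p₀.asIdeal.ResidueField X'] at h2
  rw [h2, Nat.add_sub_add_right]
  refine le_of_eq ?_
  norm_cast
  simp only [Nat.card_eq_fintype_card, Fintype.card_fin]
  omega

/-- A syntomic algebra is a retract of a relative global complete intersection which is smooth over it. -/
theorem exists_gci_retract {R A : Type u} [CommRing R] [CommRing A] [Algebra R A] (h : Synt.IsSyntomic R A) :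
    ∃ (n c : ℕ) (F : Fin c → MvPolynomial (Fin n) R), Synt.IsRelGCI R n c F ∧
      Module.Flat R (Synt.RelGCIRing R n c F) ∧
      ∃ (_ : Algebra A (Synt.RelGCIRing R n c F)) (_ : IsScalarTower R A (Synt.RelGCIRing R n c F)),
        Algebra.Smooth A (Synt.RelGCIRing R n c F) ∧
        ∃ ρ : Synt.RelGCIRing R n c F →ₐ[R] A, ∀ a : A, ρ (algebraMap A (Synt.RelGCIRing R n c F) a) = a := by
  haveI := h.2.1
  obtain ⟨n, φ, hφ, hfg⟩ := Algebra.FinitePresentation.out (R := R) (A := A)
  obtain ⟨m, f, hf⟩ := Submodule.fg_iff_exists_fin_generating_family.1 hfg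
  have hker : RingHom.ker φ.toRingHom = Ideal.span (Set.range f) := hf.symm
  obtain ⟨E, hE, hrow, hsyz⟩ := exists_projector h φ hφ f hker
  obtain ⟨F, hF, ⟨e⟩⟩ := exists_relGCI_symConormal h hφ hker E hE hrow hsyz
  haveI := smooth_symConormal E hrow hsyz
  letI : Algebra A (Synt.RelGCIRing R (n + m + 1) (m + 1) F) :=
    (e.toAlgHom.comp (IsScalarTower.toAlgHom R A (SymConormal φ f))).toRingHom.toAlgebra
  haveI : IsScalarTower R A (Synt.RelGCIRing R (n + m + 1) (m + 1) F) :=
    IsScalarTower.of_algebraMap_eq fun x =>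
      ((e.toAlgHom.comp (IsScalarTower.toAlgHom R A (SymConormal φ f))).commutes x).symm
  let eA : SymConormal φ f ≃ₐ[A] Synt.RelGCIRing R (n + m + 1) (m + 1) F :=
    AlgEquiv.ofRingEquiv (f := e.toRingEquiv) fun _ => rfl
  obtain ⟨ρ, -⟩ := exists_retraction φ f
  refine ⟨_, _, F, hF, flat_relGCIRing hF, inferInstance, inferInstance, Algebra.Smooth.of_equiv eA,
    (ρ.restrictScalars R).comp e.symm.toAlgHom, fun a => ?_⟩
  show ρ (e.symm (e (algebraMap A (SymConormal φ f) a))) = a
  rw [e.symm_apply_apply, ρ.commutes]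
  rfl

end Groth.Agent.SynLift
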