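import Groth.Agent.SynLift.FibreCI
import Groth.Agent.Synt29.LocalRelGCI
import Groth.Agent.Synt29.AwayGCI

/-!
# Adapted relations for a syntomic algebra in a given presentation
-/

universe u

open MvPolynomial TensorProduct Order Topology Groth.Agent.Synt29

set_option linter.style.haveILetI false

namespace Groth.Agent.SynLift

variable {R : Type u} [CommRing R]

theorem goodLocus_of_away {S : Type u} [CommRing S] [Algebra R S] (T : Type u) [CommRing T] [Algebra R T]
    [Algebra S T] [IsScalarTower R S T] (g : S) [IsLocalization.Away g T] (d : ℕ) (P : PrimeSpectrum T)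
    (hP : P ∈ goodLocus R T d) : PrimeSpectrum.comap (algebraMap S T) P ∈ goodLocus R S d := by
  obtain ⟨U, hU, hPU, hUd⟩ := hP
  let j := PrimeSpectrum.comap (algebraMap S T)
  have hj : Topology.IsOpenEmbedding j := PrimeSpectrum.localization_away_isOpenEmbedding T g
  refine ⟨j '' U, hj.isOpenMap U hU, ⟨P, hPU, rfl⟩, fun y => ?_⟩
  let i : ↥(j '' U ∩ FibDim.fib (B := S) y) → ↥(U ∩ FibDim.fib (B := T) y) := fun z =>
    ⟨z.2.1.choose, z.2.1.choose_spec.1, by
      show PrimeSpectrum.comap (algebraMap R T) z.2.1.choose = y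
      rw [IsScalarTower.algebraMap_eq R S T, PrimeSpectrum.comap_comp_apply,
        show PrimeSpectrum.comap (algebraMap S T) z.2.1.choose = z.1 from z.2.1.choose_spec.2]
      exact z.2.2⟩
  have hi : ∀ z, j (i z).1 = z.1 := fun z => z.2.1.choose_spec.2
  refine le_trans (Topology.IsInducing.topologicalKrullDim_le (f := i) ?_) (hUd y)
  refine (Topology.IsInducing.of_comp_iff Topology.IsInducing.subtypeVal).1 ?_
  refine (Topology.IsInducing.of_comp_iff hj.isEmbedding.isInducing).1 ?_
  have : j ∘ Subtype.val ∘ i = Subtype.val := funext hi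
  rw [show j ∘ (Subtype.val ∘ i) = Subtype.val from this]
  exact Topology.IsInducing.subtypeVal

set_option maxHeartbeats 2000000 in
/-- Near each point, the kernel of a presentation of a syntomic algebra is generated, after inverting one
element, by the relations of a relative global complete intersection. -/
theorem exists_adapted {A : Type u} [CommRing A] [Algebra R A] (h : Synt.IsSyntomic R A) {n : ℕ}
    (φ : MvPolynomial (Fin n) R →ₐ[R] A) (hφ : Function.Surjective φ) (q : PrimeSpectrum A) :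
    ∃ (c : ℕ) (_ : c ≤ n) (F : Fin c → MvPolynomial (Fin n) R) (H : MvPolynomial (Fin n) R),
      φ H ∉ q.asIdeal ∧ (∀ i, φ (F i) = 0) ∧ (∀ x, φ x = 0 → H * x ∈ Ideal.span (Set.range F)) ∧
      Synt.IsRelGCI R (n + 1) (c + 1) (snocPoly F H) := by
  classical
  haveI := h.1
  haveI := h.2.1
  let p := PrimeSpectrum.comap (algebraMap R A) q
  let k := p.asIdeal.ResidueField
  let Fib := p.asIdeal.Fiber A
  obtain ⟨M₀, f, hf⟩ := Submodule.fg_iff_exists_fin_generating_family.1
    (Algebra.FinitePresentation.ker_fG_of_surjective φ hφ)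
  have hf' : Ideal.span (Set.range f) = RingHom.ker φ.toRingHom := hf
  let e0 : Synt.RelGCIRing R n M₀ f ≃ₐ[R] A :=
    (Ideal.quotientEquivAlgOfEq R hf').trans (Ideal.quotientKerAlgEquivOfSurjective (R₁ := R) hφ)
  let e1 : Synt.RelGCIRing k n M₀ (mapPoly R f k) ≃ₐ[k] Fib :=
    (baseChangeEquiv R f k).symm.trans (Algebra.TensorProduct.congr AlgEquiv.refl e0)
  let Ψ : MvPolynomial (Fin n) k →ₐ[k] Fib := e1.toAlgHom.comp (Ideal.Quotient.mkₐ k _)
  have hΨ : Function.Surjective Ψ := fun y => by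
    obtain ⟨z, hz⟩ := Ideal.Quotient.mk_surjective (e1.symm y)
    exact ⟨z, by show e1 (Ideal.Quotient.mk _ z) = y; rw [hz, AlgEquiv.apply_symm_apply]⟩
  have hΨmap : ∀ x, Ψ (MvPolynomial.map (algebraMap R k) x) = (1 : k) ⊗ₜ[R] φ x := fun x => by
    show Algebra.TensorProduct.congr AlgEquiv.refl e0
      ((baseChangeEquiv R f k).symm (Ideal.Quotient.mk _ (MvPolynomial.map (algebraMap R k) x))) = _
    rw [baseChangeEquiv_symm_mk_map]
    show (1 : k) ⊗ₜ[R] e0 (Ideal.Quotient.mk _ x) = _
    rfl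
  have hΨker : ∀ x, Ψ x = 0 → x ∈ (RingHom.ker φ.toRingHom).map (MvPolynomial.map (algebraMap R k)) := fun x hx => by
    rw [← hf', Ideal.map_span, ← Set.range_comp]
    exact Ideal.Quotient.eq_zero_iff_mem.1 ((map_eq_zero_iff e1 e1.injective).1 hx)
  obtain ⟨Q, hQ⟩ := FlatLoc6.exists_fiber_prime p.asIdeal q.asIdeal rfl
  have hQmem : ∀ x, Ψ (MvPolynomial.map (algebraMap R k) x) ∈ Q.asIdeal ↔ φ x ∈ q.asIdeal := fun x => by
    rw [hΨmap, ← hQ]; rfl
  haveI : Algebra.FiniteType k Fib := Algebra.FiniteType.of_surjective Ψ hΨ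
  obtain ⟨c, hcn, r, G₀, hG₀, hr, hkill, hdim⟩ :=
    exists_fibre_data Ψ hΨ Q.asIdeal (isCIOver_atPrime_of_isLCIOver (h.2.2 p) Q.asIdeal)
  -- lifts
  choose s hs F hF hFmap using fun i => exists_scaled_of_mem_map p.asIdeal (RingHom.ker φ.toRingHom) (r i) (hΨker _ (hr i))
  obtain ⟨sG, hsG, G, hG⟩ := exists_scaled_lift p.asIdeal G₀
  have hne : ∀ {s : R}, s ∉ p.asIdeal → algebraMap R k s ≠ 0 := fun hs h =>
    hs (Ideal.algebraMap_residueField_eq_zero.1 h)
  have hspan : Ideal.span (Set.range (mapPoly R F k)) = Ideal.span (Set.range r) := by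
    refine le_antisymm (Ideal.span_le.2 ?_) (Ideal.span_le.2 ?_)
    · rintro _ ⟨i, rfl⟩
      show MvPolynomial.map _ (F i) ∈ _
      rw [hFmap i]
      exact Ideal.mul_mem_left _ _ (Ideal.subset_span (Set.mem_range_self i))
    · rintro _ ⟨i, rfl⟩
      have h1 : MvPolynomial.C (algebraMap R k (s i))⁻¹ * mapPoly R F k i = r i := by
        show _ * MvPolynomial.map _ (F i) = _
        rw [hFmap i, ← mul_assoc, ← map_mul, inv_mul_cancel₀ (hne (hs i)), map_one, one_mul]
      rw [← h1]
      exact Ideal.mul_mem_left _ _ (Ideal.subset_span (Set.mem_range_self i))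
  have hGq : φ G ∉ q.asIdeal := fun hm => by
    rw [← hQmem, hG, map_mul] at hm
    refine hG₀ ((Ideal.unit_mul_mem_iff_mem _ ?_).1 hm)
    exact ((hne hsG).isUnit.map MvPolynomial.C).map Ψ
  let S := Synt.RelGCIRing R n c F
  let mkS : MvPolynomial (Fin n) R →ₐ[R] S := Ideal.Quotient.mkₐ R _
  let π : S →ₐ[R] A := Ideal.Quotient.liftₐ _ φ (fun x hx => by
    have : Ideal.span (Set.range F) ≤ RingHom.ker φ.toRingHom := Ideal.span_le.2 (by rintro _ ⟨i, rfl⟩; exact hF i)
    exact this hx)
  let B := Localization.Away (mkS G)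
  let Ag := Localization.Away (φ G)
  have hu : IsUnit ((IsScalarTower.toAlgHom R A Ag).comp π (mkS G)) := IsLocalization.Away.algebraMap_isUnit (φ G)
  let ρ : B →ₐ[R] Ag := IsLocalization.Away.liftAlgHom (mkS G) (f := (IsScalarTower.toAlgHom R A Ag).comp π) hu
  have hρ0 : ∀ x, ρ (algebraMap S B (mkS x)) = algebraMap A Ag (φ x) := fun x =>
    IsLocalization.Away.lift_eq (mkS G) hu (mkS x)
  have hρ : Function.Surjective ρ := fun y => by
    obtain ⟨N, a, ha⟩ := IsLocalization.Away.surj (φ G) y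
    obtain ⟨x, rfl⟩ := hφ a
    obtain ⟨w, hw⟩ := IsLocalization.Away.algebraMap_isUnit (S := B) (mkS G)
    refine ⟨algebraMap S B (mkS x) * ((w⁻¹ ^ N : Bˣ) : B), ?_⟩
    have hwG : ρ (w : B) = algebraMap A Ag (φ G) := by rw [hw, hρ0]
    refine ((IsLocalization.Away.algebraMap_isUnit (φ G)).pow N).mul_left_injective ?_
    show _ * algebraMap A Ag (φ G) ^ N = y * algebraMap A Ag (φ G) ^ N
    rw [ha, map_mul, hρ0, mul_assoc, ← hwG, ← map_pow, ← map_mul, ← Units.val_pow_eq_pow_val, ← Units.val_mul,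
      inv_pow, inv_mul_cancel, Units.val_one, map_one, mul_one]
  haveI : Algebra.FinitePresentation R S := Algebra.FinitePresentation.quotient (Submodule.fg_span (Set.finite_range F))
  haveI : Algebra.FinitePresentation S B := IsLocalization.Away.finitePresentation (mkS G)
  haveI : Algebra.FinitePresentation R B := Algebra.FinitePresentation.trans R S B
  haveI : Algebra.FinitePresentation A Ag := IsLocalization.Away.finitePresentation (φ G)
  haveI : Algebra.FinitePresentation R Ag := Algebra.FinitePresentation.trans R A Ag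
  haveI : Module.Flat A Ag := IsLocalization.flat Ag (Submonoid.powers (φ G))
  haveI : Module.Flat R Ag := Module.Flat.trans R A Ag
  let J : Ideal B := RingHom.ker ρ.toRingHom
  haveI : Module.Flat R (B ⧸ J) :=
    Module.Flat.of_linearEquiv (Ideal.quotientKerAlgEquivOfSurjective (R₁ := R) hρ).toLinearEquiv
  have hJ : J.FG := Algebra.FinitePresentation.ker_fG_of_surjective ρ hρ
  obtain ⟨qg, hqg⟩ : q ∈ Set.range (PrimeSpectrum.comap (algebraMap A Ag)) := by
    rw [PrimeSpectrum.localization_away_comap_range Ag (φ G)]; exact hGq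
  let qB : PrimeSpectrum B := PrimeSpectrum.comap ρ.toRingHom qg
  have hqBA : ∀ x, algebraMap S B (mkS x) ∈ qB.asIdeal ↔ φ x ∈ q.asIdeal := fun x => by
    show ρ (algebraMap S B (mkS x)) ∈ qg.asIdeal ↔ _
    rw [hρ0, ← hqg]; rfl
  have hqBp : PrimeSpectrum.comap (algebraMap R B) qB = p := by
    show PrimeSpectrum.comap (algebraMap R B) (PrimeSpectrum.comap ρ.toRingHom qg) = PrimeSpectrum.comap (algebraMap R A) q
    rw [← hqg]
    refine PrimeSpectrum.ext ?_
    show (qg.asIdeal.comap ρ.toRingHom).comap (algebraMap R B) = (qg.asIdeal.comap (algebraMap A Ag)).comap (algebraMap R A)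
    rw [Ideal.comap_comap, Ideal.comap_comap, ← IsScalarTower.algebraMap_eq]
    congr 1
    exact ρ.comp_algebraMap
  haveI : qB.asIdeal.LiesOver p.asIdeal := ⟨(congrArg PrimeSpectrum.asIdeal hqBp).symm⟩
  let ι : B →ₐ[R] p.asIdeal.Fiber B := Algebra.TensorProduct.includeRight
  have hιS : ∀ x ∈ RingHom.ker φ.toRingHom, ι (algebraMap S B (mkS x)) = 0 := by
    intro x hx
    let ν : p.asIdeal.Fiber S →ₐ[R] p.asIdeal.Fiber B :=
      Algebra.TensorProduct.map (AlgHom.id R _) (IsScalarTower.toAlgHom R S B)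
    have hν : ∀ y, ν ((1 : k) ⊗ₜ[R] mkS y) = ι (algebraMap S B (mkS y)) := fun y =>
      Algebra.TensorProduct.map_tmul _ _ _ _
    have h0 : ν ((1 : k) ⊗ₜ[R] mkS (G * x)) = 0 := by
      have h1 : MvPolynomial.map (algebraMap R k) (G * x) ∈ Ideal.span (Set.range (mapPoly R F k)) := by
        rw [hspan, map_mul, hG, mul_assoc]
        refine Ideal.mul_mem_left _ _ (hkill _ ?_)
        rw [hΨmap, show φ x = 0 from hx, TensorProduct.tmul_zero]
      have h2 := baseChangeEquiv_symm_mk_map F k (G * x)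
      rw [Ideal.Quotient.eq_zero_iff_mem.2 h1, map_zero] at h2
      rw [show (1 : k) ⊗ₜ[R] mkS (G * x) = 0 from h2.symm, map_zero]
    rw [hν, map_mul, map_mul, map_mul] at h0
    exact ((IsLocalization.Away.algebraMap_isUnit (mkS G)).map ι).mul_right_eq_zero.1 h0
  obtain ⟨a, ha, haJ⟩ := exists_annihilator J hJ qB.asIdeal p.asIdeal (fun y hy => by
    show ι y = 0
    obtain ⟨N, z, hz⟩ := IsLocalization.Away.surj (mkS G) y
    obtain ⟨x, rfl⟩ := Ideal.Quotient.mk_surjective z
    obtain ⟨M, hM⟩ : ∃ M, φ (G ^ M * x) = 0 := by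
      have h1 : algebraMap A Ag (φ x) = 0 := by
        rw [← hρ0]
        show ρ (algebraMap S B (Ideal.Quotient.mk _ x)) = 0
        rw [← hz, map_mul, show ρ y = 0 from hy, zero_mul]
      obtain ⟨⟨_, M, rfl⟩, hM⟩ := (IsLocalization.map_eq_zero_iff (Submonoid.powers (φ G)) Ag _).1 h1
      exact ⟨M, by rw [map_mul, map_pow]; exact hM⟩
    have h2 := hιS _ hM
    have hu : IsUnit (ι (algebraMap S B (mkS G))) := (IsLocalization.Away.algebraMap_isUnit (mkS G)).map ι
    rw [map_mul, map_mul, map_mul, map_pow, map_pow, map_pow,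
      (hu.pow M).mul_right_eq_zero, show mkS x = Ideal.Quotient.mk _ x from rfl, ← hz, map_mul, map_pow,
      (hu.pow N).mul_left_eq_zero] at h2
    exact h2)
  -- fibre dimension near the point
  have hgood : qB ∈ goodLocus R B (n - c) := by
    haveI : Algebra.FiniteType R B := inferInstance
    refine mem_goodLocus _ _ ?_
    rw [hqBp]
    let S₀ := Synt.RelGCIRing k n c r
    let eS : p.asIdeal.Fiber S ≃ₐ[k] S₀ :=
      (baseChangeEquiv R F k).trans (Ideal.quotientEquivAlgOfEq k hspan)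
    have heS : ∀ x, eS ((1 : k) ⊗ₜ[R] mkS x) = Ideal.Quotient.mk _ (MvPolynomial.map (algebraMap R k) x) := fun x => by
      show Ideal.quotientEquivAlgOfEq k hspan (baseChangeEquiv R F k ((1 : k) ⊗ₜ[R] mkS x)) = _
      rw [show (1 : k) ⊗ₜ[R] mkS x = (baseChangeEquiv R F k).symm (Ideal.Quotient.mk _ (MvPolynomial.map (algebraMap R k) x))
        from (baseChangeEquiv_symm_mk_map F k x).symm, AlgEquiv.apply_symm_apply]
      rfl
    let ν : p.asIdeal.Fiber S →ₐ[k] p.asIdeal.Fiber B :=
      Algebra.TensorProduct.map (AlgHom.id _ _) (IsScalarTower.toAlgHom R S B)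
    letI : Algebra (p.asIdeal.Fiber S) (p.asIdeal.Fiber B) := ν.toRingHom.toAlgebra
    haveI : IsScalarTower k (p.asIdeal.Fiber S) (p.asIdeal.Fiber B) := ⟨fun a x y => by
      show ν (a • x) * y = a • (ν x * y)
      rw [map_smul, smul_mul_assoc]⟩
    haveI hloc := IsLocalization.tensorProduct_tensorProduct_right R k (Submonoid.powers (mkS G)) B
      (RingHom.ext fun s => by
        show ν ((1 : k) ⊗ₜ[R] s) = _
        exact Algebra.TensorProduct.map_tmul _ _ _ _)
    haveI : IsLocalization.Away ((Algebra.TensorProduct.includeRight : S →ₐ[R] p.asIdeal.Fiber S) (mkS G))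
        (p.asIdeal.Fiber B) := by
      show IsLocalization (Submonoid.powers _) _
      rw [← Submonoid.map_powers]
      exact hloc
    let g₀ : S₀ := Ideal.Quotient.mk _ G₀
    letI : Algebra S₀ (p.asIdeal.Fiber B) := (ν.toRingHom.comp eS.symm.toAlgHom.toRingHom).toAlgebra
    have hassoc : Associated (eS ((Algebra.TensorProduct.includeRight : S →ₐ[R] p.asIdeal.Fiber S) (mkS G))) g₀ := by
      show Associated (eS ((1 : k) ⊗ₜ[R] mkS G)) g₀
      rw [heS, hG, map_mul]
      exact associated_unit_mul_left _ _ (((hne hsG).isUnit.map MvPolynomial.C).map _)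
    haveI : IsLocalization.Away (eS ((Algebra.TensorProduct.includeRight : S →ₐ[R] p.asIdeal.Fiber S) (mkS G)))
        (p.asIdeal.Fiber B) := by
      refine (IsLocalization.isLocalization_iff_of_base_ringEquiv (R := p.asIdeal.Fiber S) (P := S₀)
        (Submonoid.powers ((Algebra.TensorProduct.includeRight : S →ₐ[R] p.asIdeal.Fiber S) (mkS G))) (p.asIdeal.Fiber B)
        eS.toRingEquiv).1 inferInstance |> fun h => ?_
      rw [Submonoid.map_powers] at h
      exact h
    haveI : IsLocalization.Away g₀ (p.asIdeal.Fiber B) := IsLocalization.Away.of_associated hassoc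
    rw [ringKrullDim_eq_of_ringEquiv (IsLocalization.algEquiv (Submonoid.powers g₀) (p.asIdeal.Fiber B)
      (Localization.Away g₀)).toRingEquiv]
    exact hdim
  obtain ⟨_, ⟨b, rfl⟩, hbq, hbU⟩ :=
    PrimeSpectrum.isTopologicalBasis_basic_opens.exists_subset_of_mem_open hgood (isOpen_goodLocus _)
  obtain ⟨N₁, b', hb'⟩ := IsLocalization.Away.surj (mkS G) b
  obtain ⟨b'', rfl⟩ := Ideal.Quotient.mk_surjective b'
  obtain ⟨N₂, a', ha'⟩ := IsLocalization.Away.surj (mkS G) a
  obtain ⟨a'', rfl⟩ := Ideal.Quotient.mk_surjective a'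
  -- killing the kernel by one element
  have hker1 : ∀ l, ∃ M, mkS (G ^ M * a'' * f l) = 0 := fun l => by
    have h1 : algebraMap S B (mkS (f l)) ∈ J := by
      show ρ _ = 0
      rw [hρ0, show φ (f l) = 0 from (hf'.le (Ideal.subset_span (Set.mem_range_self l)) : f l ∈ RingHom.ker φ.toRingHom), map_zero]
    have h2 : algebraMap S B (mkS (a'' * f l)) = 0 := by
      rw [map_mul, map_mul, show mkS a'' = Ideal.Quotient.mk _ a'' from rfl, ← ha', mul_right_comm, haJ _ h1, zero_mul]
    obtain ⟨⟨_, M, rfl⟩, hM⟩ := (IsLocalization.map_eq_zero_iff (Submonoid.powers (mkS G)) B _).1 h2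
    refine ⟨M, ?_⟩
    rw [mul_assoc, map_mul, map_pow]
    exact hM
  choose M hM using hker1
  let H := G ^ (1 + ∑ l, M l) * a'' * b''
  have hHq : φ H ∉ q.asIdeal := by
    have h1 : φ a'' ∉ q.asIdeal := fun hm => by
      rw [← hqBA, show mkS a'' = Ideal.Quotient.mk _ a'' from rfl, ← ha'] at hm
      rcases qB.2.mem_or_mem hm with h | h
      · exact ha h
      · exact hGq ((hqBA G).1 (qB.2.mem_of_pow_mem _ h))
    have h2 : φ b'' ∉ q.asIdeal := fun hm => by
      rw [← hqBA, show mkS b'' = Ideal.Quotient.mk _ b'' from rfl, ← hb'] at hm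
      rcases qB.2.mem_or_mem hm with h | h
      · exact hbq h
      · exact hGq ((hqBA G).1 (qB.2.mem_of_pow_mem _ h))
    simp only [H, map_mul, map_pow]
    exact fun hm => (q.2.mem_or_mem hm).elim (fun hm => (q.2.mem_or_mem hm).elim (fun hm => hGq (q.2.mem_of_pow_mem _ hm)) h1) h2
  refine ⟨c, hcn, F, H, hHq, hF, fun x hx => ?_, ?_⟩
  · have hx' : x ∈ Ideal.span (Set.range f) := hf'.symm.le hx
    obtain ⟨e, rfl⟩ := Ideal.mem_span_range_iff_exists_fun.1 hx'
    rw [Finset.mul_sum]
    refine Ideal.sum_mem _ fun l _ => ?_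
    rw [mul_left_comm]
    refine Ideal.mul_mem_left _ _ (Ideal.Quotient.eq_zero_iff_mem.1 ?_)
    show mkS (H * f l) = 0
    have : M l ≤ 1 + ∑ l, M l := (Finset.single_le_sum (f := M) (fun _ _ => Nat.zero_le _) (Finset.mem_univ l)).trans (Nat.le_add_left _ _)
    obtain ⟨d, hd⟩ := Nat.exists_eq_add_of_le this
    rw [show H * f l = G ^ d * b'' * (G ^ M l * a'' * f l) by simp only [H, hd, pow_add]; ring, map_mul, hM l, mul_zero]
  · refine isRelGCI_snoc F hcn H fun P hP => ?_
    have hP' : mkS H ∉ P.asIdeal := hP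
    have hGP : mkS G ∉ P.asIdeal := fun h => hP' (by
      simp only [H, map_mul, map_pow]
      exact Ideal.mul_mem_right _ _ (Ideal.mul_mem_right _ _ (Ideal.pow_mem_of_mem _ h _ (by omega))))
    obtain ⟨PB, hPB⟩ : P ∈ Set.range (PrimeSpectrum.comap (algebraMap S B)) := by
      rw [PrimeSpectrum.localization_away_comap_range B (mkS G)]; exact hGP
    rw [← hPB]
    refine goodLocus_of_away B (mkS G) _ _ (hbU ?_)
    show b ∉ PB.asIdeal
    intro hb
    refine hP' ?_
    have h3 : mkS b'' ∈ P.asIdeal := by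
      rw [← hPB]
      show algebraMap S B (Ideal.Quotient.mk _ b'') ∈ PB.asIdeal
      rw [← hb']
      exact Ideal.mul_mem_right _ _ hb
    simp only [H, map_mul]
    exact Ideal.mul_mem_left _ _ h3

end Groth.Agent.SynLift
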