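import Mathlib
import Groth.Agent.Synt29.CIKernel
import Groth.Agent.Synt29.RelReg
import Groth.Agent.Synt29.AwayGCI
import Groth.Agent.LC.GorLoc
import Groth.Agent.Synt29.CILocal

/-!
# A local complete intersection inside affine space
-/

universe u

open IsLocalRing RingTheory.Sequence MvPolynomial
set_option linter.style.haveILetI false
set_option backward.isDefEq.respectTransparency.types false
variable {k : Type u} [Field k]

open Groth.Agent.Synt29

namespace Groth.Agent.SynLift

theorem exists_fibre_data {n : ℕ} {B : Type u} [CommRing B] [Algebra k B]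
    (f : MvPolynomial (Fin n) k →ₐ[k] B) (hf : Function.Surjective f)
    (a : Ideal B) [a.IsPrime] (h : Synt.IsCIOver k (Localization.AtPrime a)) :
    ∃ (c : ℕ) (_ : c ≤ n) (r : Fin c → MvPolynomial (Fin n) k) (G : MvPolynomial (Fin n) k),
      f G ∉ a ∧ (∀ i, f (r i) = 0) ∧ (∀ x, f x = 0 → G * x ∈ Ideal.span (Set.range r)) ∧
      ringKrullDim (Localization.Away (Ideal.Quotient.mk (Ideal.span (Set.range r)) G)) ≤
        ((n - c : ℕ) : WithBot ℕ∞) := by
  classical
  haveI : Algebra.FiniteType k B := Algebra.FiniteType.of_surjective f hf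
  let q := a.comap f
  haveI : q.IsPrime := Ideal.comap_isPrime _ _
  obtain ⟨π, hπ, hπ', hπk⟩ := exists_atPrime_presentation f hf a q rfl
  let P := Localization.AtPrime q
  haveI := isRegularLocalRing_localization_mvPolynomial q
  haveI := essFiniteType_localization_mvPolynomial q
  obtain ⟨c, y, hy, hdim⟩ := (isCIOver_iff_ciKer π hπ).1 h
  let I := RingHom.ker f.toRingHom
  have hnum : ∀ i, ∃ r ∈ I, ∃ u : P, IsUnit u ∧ algebraMap _ P r = u * y i := fun i => by
    have h1 : y i ∈ I.map (algebraMap _ P) := hπk ▸ hy ▸ Ideal.subset_span (Set.mem_range_self i)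
    obtain ⟨⟨r, s⟩, hrs⟩ := (IsLocalization.mem_map_algebraMap_iff q.primeCompl P).1 h1
    exact ⟨r.1, r.2, _, IsLocalization.map_units P s, by rw [mul_comm]; exact hrs.symm⟩
  choose r hrI u hu hru using hnum
  let J := Ideal.span (Set.range r)
  have hJP : J.map (algebraMap _ P) = RingHom.ker π.toRingHom := by
    rw [hy, Ideal.map_span, ← Set.range_comp]
    refine le_antisymm (Ideal.span_le.2 ?_) (Ideal.span_le.2 ?_)
    · rintro _ ⟨i, rfl⟩
      show algebraMap _ P (r i) ∈ _
      rw [hru i]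
      exact Ideal.mul_mem_left _ _ (Ideal.subset_span (Set.mem_range_self i))
    · rintro _ ⟨i, rfl⟩
      refine (Ideal.unit_mul_mem_iff_mem _ (hu i)).1 ?_
      rw [← hru i]
      exact Ideal.subset_span ⟨i, rfl⟩
  -- an element killing `I / J`
  obtain ⟨G₀, hG₀⟩ := (IsNoetherian.noetherian I : I.FG)
  have hkill : ∀ x : MvPolynomial (Fin n) k, ∃ s : q.primeCompl, x ∈ I → (s : MvPolynomial (Fin n) k) * x ∈ J := by
    intro x
    by_cases hx : x ∈ I
    · have h1 : algebraMap _ P x ∈ J.map (algebraMap _ P) := by rw [hJP, hπk]; exact Ideal.mem_map_of_mem _ hx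
      obtain ⟨⟨⟨b, hb⟩, s⟩, hbs⟩ := (IsLocalization.mem_map_algebraMap_iff q.primeCompl P).1 h1
      rw [← map_mul, IsLocalization.eq_iff_exists q.primeCompl] at hbs
      obtain ⟨d, hd⟩ := hbs
      refine ⟨d * s, fun _ => ?_⟩
      rw [Submonoid.coe_mul, mul_assoc, mul_comm (s : MvPolynomial (Fin n) k) x, hd]
      exact J.mul_mem_left _ hb
    · exact ⟨1, fun h => absurd h hx⟩
  choose s hs using hkill
  let h0 : MvPolynomial (Fin n) k := ((∏ x ∈ G₀, s x : q.primeCompl) : MvPolynomial (Fin n) k)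
  have hh0 : ∀ x ∈ I, h0 * x ∈ J := by
    intro x hx
    rw [← hG₀] at hx
    induction hx using Submodule.span_induction with
    | mem z hz =>
      show ((∏ x ∈ G₀, s x : q.primeCompl) : MvPolynomial (Fin n) k) * z ∈ J
      rw [← Finset.prod_erase_mul G₀ s hz, Submonoid.coe_mul, mul_assoc]
      exact J.mul_mem_left _ (hs z (hG₀ ▸ Ideal.subset_span hz))
    | zero => simp
    | add v w _ _ hv hw => rw [mul_add]; exact J.add_mem hv hw
    | smul b v _ hv => rw [smul_eq_mul, mul_left_comm]; exact J.mul_mem_left _ hv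
  -- avoid the components not passing through `q`
  have hfin : J.minimalPrimes.Finite := Ideal.finite_minimalPrimes_of_isNoetherianRing _ J
  have hbad : ∀ p : Ideal (MvPolynomial (Fin n) k), ∃ e : q.primeCompl, ¬ p ≤ q → (e : MvPolynomial (Fin n) k) ∈ p := by
    intro p
    by_cases hp : p ≤ q
    · exact ⟨1, fun h => absurd hp h⟩
    · obtain ⟨e, he1, he2⟩ := SetLike.not_le_iff_exists.1 hp
      exact ⟨⟨e, he2⟩, fun _ => he1⟩
  choose e he using hbad
  let G : MvPolynomial (Fin n) k := h0 * ((∏ p ∈ hfin.toFinset, e p : q.primeCompl) : MvPolynomial (Fin n) k)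
  have hGq : G ∉ q := q.primeCompl.mul_mem (∏ x ∈ G₀, s x).2 (∏ p ∈ hfin.toFinset, e p).2
  -- height of the components through `q`
  have hheight : (c : WithBot ℕ∞) ≤ ((J.map (algebraMap _ P)).height : WithBot ℕ∞) := by
    haveI := (FlatLoc6.isCM_of_isRegularRing (MvPolynomial (Fin n) k)).isCohenMacaulayLocalRing_localization q
    have h1 := LC.height_add_ringKrullDim_quotient (J.map (algebraMap _ P)) (by rw [hJP]; exact RingHom.ker_ne_top _)
    rw [hdim, ringKrullDim_eq_of_ringEquiv ((Ideal.quotEquivOfEq hJP).trans (RingHom.quotientKerEquivOfSurjective hπ))] at h1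
    obtain ⟨d, hd⟩ := WithBot.ne_bot_iff_exists.1 (fun hb : ringKrullDim (Localization.AtPrime a) = ⊥ =>
      WithBot.bot_lt_coe 0 |>.not_ge (hb ▸ ringKrullDim_nonneg_of_nontrivial (R := Localization.AtPrime a)))
    have hdR := ringKrullDim_eq_nat P
    rw [hdim, ← hd] at hdR
    rw [← hd] at h1
    have h3 : d + (J.map (algebraMap _ P)).height = d + (c : ℕ∞) := WithBot.coe_inj.1 (by exact_mod_cast h1)
    have hdtop : d ≠ ⊤ := by
      rintro rfl
      have h2 : ⊤ + (c : ℕ∞) = ((maximalIdeal P).spanFinrank : ℕ∞) := WithBot.coe_inj.1 (by exact_mod_cast hdR)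
      simp at h2
    exact le_of_eq (by rw [WithTop.add_left_cancel hdtop h3]; rfl)
  have hcomp : ∀ p ∈ J.minimalPrimes, G ∉ p → ∀ hp : p.IsPrime, (c : ℕ∞) ≤ Order.height (⟨p, hp⟩ : PrimeSpectrum (MvPolynomial (Fin n) k)) := by
    intro p hp hGp hpr
    have hpq : p ≤ q := by
      by_contra hne
      refine hGp (Ideal.mul_mem_left _ _ ?_)
      rw [← Finset.prod_erase_mul hfin.toFinset e (hfin.mem_toFinset.2 hp), Submonoid.coe_mul]
      exact Ideal.mul_mem_left _ _ (he p hne)
    rw [← PrimeSpectrum.height_eq_orderHeight (⟨p, hpr⟩ : PrimeSpectrum (MvPolynomial (Fin n) k))]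
    haveI := hpr
    have hdisj : Disjoint (q.primeCompl : Set (MvPolynomial (Fin n) k)) p :=
      Set.disjoint_left.2 fun x hx hxp => hx (hpq hxp)
    rw [← IsLocalization.height_map_of_disjoint q.primeCompl p hdisj (S := P)]
    exact (WithBot.coe_le_coe.1 hheight).trans (Ideal.height_mono (Ideal.map_mono hp.1.2))
  have hexP : ∀ p : Ideal (MvPolynomial (Fin n) k), p.IsPrime → J ≤ p → G ∉ p → ∃ p₀ ∈ J.minimalPrimes, p₀ ≤ p ∧ G ∉ p₀ := by
    intro p hp hJp hGp
    haveI := hp
    obtain ⟨p₀, hp₀, hle⟩ := Ideal.exists_minimalPrimes_le hJp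
    exact ⟨p₀, hp₀, hle, fun h => hGp (hle h)⟩
  have hfq : ∀ x ∈ J, x ∈ q := fun x hx => by
    have h1 : x ∈ I := (Ideal.span_le.2 (by rintro _ ⟨i, rfl⟩; exact hrI i) : J ≤ I) hx
    show f x ∈ a
    rw [show f x = 0 from h1]
    exact zero_mem _
  have hcn : c ≤ n := by
    obtain ⟨p₀, hp₀, -, hG₀'⟩ := hexP q inferInstance hfq hGq
    have h1 := hcomp p₀ hp₀ hG₀' hp₀.1.1
    have h2 := VarDim.height_add_coheight_eq k n (MvPolynomial (Fin n) k) (by
      rw [MvPolynomial.ringKrullDim_of_isNoetherianRing, ringKrullDim_eq_zero_of_field, zero_add]; simp) ⟨p₀, hp₀.1.1⟩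
    have := h1.trans (le_self_add.trans h2.le)
    exact_mod_cast this
  -- the localisation of the lifted presentation
  let B' := Synt.RelGCIRing k n c r
  let g' : B' := Ideal.Quotient.mk _ G
  let T := Localization.Away g'
  have hTdim : ringKrullDim T ≤ ((n - c : ℕ) : WithBot ℕ∞) := by
    refine iSup_le fun l => ?_
    let ψ : MvPolynomial (Fin n) k →+* T := (algebraMap B' T).comp (Ideal.Quotient.mk _)
    let j : PrimeSpectrum T → PrimeSpectrum (MvPolynomial (Fin n) k) := PrimeSpectrum.comap ψ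
    have hj : StrictMono j := by
      refine Monotone.strictMono_of_injective (fun _ _ h => Ideal.comap_mono h) ?_
      intro v w hvw
      refine PrimeSpectrum.localization_comap_injective T (Submonoid.powers g') ?_
      refine PrimeSpectrum.comap_injective_of_surjective _ Ideal.Quotient.mk_surjective ?_
      exact hvw
    let l' := l.map j hj
    have hGl : G ∉ (j l.head).asIdeal := fun hm =>
      l.head.2.ne_top (Ideal.eq_top_of_isUnit_mem _ (show algebraMap B' T g' ∈ l.head.asIdeal from hm)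
        (IsLocalization.Away.algebraMap_isUnit g'))
    have hJl : J ≤ (j l.head).asIdeal := fun x hx => by
      show algebraMap B' T (Ideal.Quotient.mk _ x) ∈ l.head.asIdeal
      rw [Ideal.Quotient.eq_zero_iff_mem.2 hx, map_zero]
      exact zero_mem _
    obtain ⟨p₀, hp₀, hle, hG₀'⟩ := hexP _ (j l.head).2 hJl hGl
    let P₀ : PrimeSpectrum (MvPolynomial (Fin n) k) := ⟨p₀, hp₀.1.1⟩
    have h1 : (c : ℕ∞) ≤ Order.height P₀ := hcomp p₀ hp₀ hG₀' hp₀.1.1
    have h2 := VarDim.height_add_coheight_eq k n (MvPolynomial (Fin n) k) (by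
      rw [MvPolynomial.ringKrullDim_of_isNoetherianRing, ringKrullDim_eq_zero_of_field, zero_add]; simp) P₀
    have h3 : (l.length : ℕ∞) ≤ Order.coheight P₀ :=
      Order.length_le_coheight (p := l') (show P₀ ≤ l'.head from hle)
    have h4 : (c : ℕ∞) + (l.length : ℕ∞) ≤ n := (add_le_add h1 h3).trans h2.le
    have h5 : c + l.length ≤ n := by exact_mod_cast h4
    exact_mod_cast (show l.length ≤ n - c by omega)
  refine ⟨c, hcn, r, G, hGq, hrI, fun x hx => ?_, hTdim⟩
  rw [show G = h0 * _ from rfl, mul_right_comm]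
  exact J.mul_mem_right _ (hh0 x hx)

end Groth.Agent.SynLift
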