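import Groth.Agent.SynLift.Adapted
import Groth.Agent.SmoothingLib.SymConormal

/-!
# The conormal module of a syntomic algebra is a direct summand of a free module
-/

universe u

open MvPolynomial Groth.Agent.Synt29

namespace Groth.Agent.SynLift

/-- A relation among a sequence which is regular on its zero locus has coefficients in its ideal. -/
theorem coeff_mem_of_relation {B : Type u} [CommRing B] {c : ℕ} (F : Fin c → B)
    (hreg : ∀ q : Ideal B, q.IsPrime → (∀ i, F i ∈ q) → ∀ (i : Fin c) (x : B),
      F i * x ∈ Ideal.ofList ((List.ofFn F).take i.1) → ∃ t ∉ q, t * x ∈ Ideal.ofList ((List.ofFn F).take i.1))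
    (a : Fin c → B) (ha : ∑ j, a j * F j = 0) (j : Fin c) : a j ∈ Ideal.span (Set.range F) := by
  classical
  have hloc : ∀ q : Ideal B, q.IsPrime → ∃ t ∉ q, t * a j ∈ Ideal.span (Set.range F) := by
    intro q hq
    by_cases hF : ∀ i, F i ∈ q
    · have key : ∀ i ≤ c, ∀ u : Fin c → B, (∀ j : Fin c, i ≤ j.1 → u j = 0) → ∑ j, u j * F j = 0 →
          ∀ j, ∃ t ∉ q, t * u j ∈ Ideal.span (Set.range F) := by
        intro i
        induction i with
        | zero =>
          intro _ u hu _ j
          exact ⟨1, fun h => hq.ne_top ((Ideal.eq_top_iff_one q).2 h), by rw [hu j (Nat.zero_le _), mul_zero]; exact zero_mem _⟩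
        | succ i ih =>
          intro hi u hu hrel j
          let i₀ : Fin c := ⟨i, hi⟩
          have hx : F i₀ * u i₀ ∈ Ideal.ofList ((List.ofFn F).take i) := by
            refine (mem_ofList_take_iff F i _).2 ⟨fun j => if j.1 < i then -u j else 0,
              fun j hj => if_neg (by omega), ?_⟩
            rw [← sub_eq_zero]
            refine Eq.trans ?_ hrel
            rw [show (∑ j, (fun j => if j.1 < i then -u j else 0) j * F j) = -(∑ j, if j.1 < i then u j * F j else 0) by
              rw [← Finset.sum_neg_distrib]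
              exact Finset.sum_congr rfl fun j _ => by split_ifs <;> simp [*]]
            rw [sub_neg_eq_add]
            have : ∀ j : Fin c, u j * F j = (if j.1 < i then u j * F j else 0) + (if j = i₀ then u j * F j else 0) := by
              intro j
              rcases lt_trichotomy j.1 i with h | h | h
              · rw [if_pos h, if_neg (fun h' => by simp [i₀, h'] at h), add_zero]
              · rw [if_neg (by omega), if_pos (Fin.ext h), zero_add]
              · rw [if_neg (by omega), if_neg (fun h' => by simp [i₀, h'] at h), add_zero, hu j (by omega), zero_mul]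
            conv_rhs => rw [Finset.sum_congr rfl fun j _ => this j, Finset.sum_add_distrib,
              Finset.sum_ite_eq' Finset.univ i₀ fun j => u j * F j, if_pos (Finset.mem_univ _)]
            ring
          obtain ⟨t, ht, htx⟩ := hreg q hq hF i₀ (u i₀) hx
          obtain ⟨v, hv0, hv⟩ := (mem_ofList_take_iff F i _).1 htx
          let u' : Fin c → B := fun j => if j.1 < i then t * u j + F i₀ * v j else 0
          have hu' : ∑ j, u' j * F j = 0 := by
            have h1 : ∀ j, u' j * F j = t * (u j * F j) + F i₀ * (v j * F j) - (if j = i₀ then t * u j * F j else 0) := by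
              intro j
              rcases lt_trichotomy j.1 i with h | h | h
              · simp only [u', if_pos h, if_neg (fun h' : j = i₀ => by simp [i₀, h'] at h)]; ring
              · obtain rfl : j = i₀ := Fin.ext h
                simp only [u', if_neg (show ¬ (i₀ : ℕ) < i from lt_irrefl i), if_pos, hv0 i₀ le_rfl]; ring
              · simp only [u', if_neg (show ¬ (j : ℕ) < i by omega), if_neg (fun h' : j = i₀ => by simp [i₀, h'] at h),
                  hv0 j (by omega), hu j (by omega)]; ring
            rw [Finset.sum_congr rfl fun j _ => h1 j, Finset.sum_sub_distrib, Finset.sum_add_distrib, ← Finset.mul_sum,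
              ← Finset.mul_sum, hrel, ← hv, Finset.sum_ite_eq' Finset.univ i₀ fun j => t * u j * F j,
              if_pos (Finset.mem_univ _)]
            ring
          rcases lt_trichotomy j.1 i with h | h | h
          · obtain ⟨t', ht', h'⟩ := ih (by omega) u' (fun j hj => if_neg (by omega)) hu' j
            refine ⟨t' * t, fun hh => (hq.mem_or_mem hh).elim ht' ht, ?_⟩
            simp only [u', if_pos h, mul_add] at h'
            rw [mul_assoc]
            have h2 : t' * (F i₀ * v j) ∈ Ideal.span (Set.range F) :=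
              Ideal.mul_mem_left _ _ (Ideal.mul_mem_right _ _ (Ideal.subset_span ⟨i₀, rfl⟩))
            simpa using Ideal.sub_mem _ h' h2
          · obtain rfl : j = i₀ := Fin.ext h
            refine ⟨t, ht, ?_⟩
            rw [hv]
            exact Ideal.sum_mem _ fun l _ => Ideal.mul_mem_left _ _ (Ideal.subset_span ⟨l, rfl⟩)
          · exact ⟨1, fun h => hq.ne_top ((Ideal.eq_top_iff_one q).2 h), by rw [hu j (by omega), mul_zero]; exact zero_mem _⟩
      exact key c le_rfl a (fun j hj => absurd j.2 (by omega)) ha j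
    · obtain ⟨i, hi⟩ := not_forall.1 hF
      exact ⟨F i, hi, Ideal.mul_mem_right _ _ (Ideal.subset_span ⟨i, rfl⟩)⟩
  let C : Ideal B := (Ideal.span (Set.range F)).colon ({a j} : Set B)
  have hC : C = ⊤ := by
    by_contra hne
    obtain ⟨m, hm, hle⟩ := Ideal.exists_le_maximal C hne
    obtain ⟨t, ht, hta⟩ := hloc m hm.isPrime
    refine ht (hle ?_)
    rw [Submodule.mem_colon_singleton, smul_eq_mul]
    exact hta
  have : (1 : B) ∈ C := hC ▸ Submodule.mem_top
  rwa [Submodule.mem_colon_singleton, one_smul] at this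

variable {R A : Type u} [CommRing R] [CommRing A] [Algebra R A]

/-- The adapted relations form a basis of the conormal module where the denominator is invertible. -/
theorem adapted_syz {n c : ℕ} (φ : MvPolynomial (Fin n) R →ₐ[R] A) (F : Fin c → MvPolynomial (Fin n) R)
    (H : MvPolynomial (Fin n) R) (hF : ∀ i, φ (F i) = 0)
    (hkill : ∀ x, φ x = 0 → H * x ∈ Ideal.span (Set.range F))
    (hgci : Synt.IsRelGCI R (n + 1) (c + 1) (snocPoly F H)) (a : Fin c → MvPolynomial (Fin n) R)
    (ha : ∑ k, a k * F k ∈ RingHom.ker φ.toRingHom ^ 2) (k : Fin c) :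
    algebraMap A (Localization.Away (φ H)) (φ (a k)) = 0 := by
  classical
  let P := MvPolynomial (Fin n) R
  let IF := Ideal.span (Set.range F)
  have hsq : ∀ z ∈ RingHom.ker φ.toRingHom ^ 2, H * H * z ∈ IF * IF := fun z hz => by
    rw [pow_two] at hz
    exact Submodule.mul_induction_on (C := fun z => H * H * z ∈ IF * IF) hz
      (fun u hu v hv => by
        rw [mul_mul_mul_comm]
        exact Ideal.mul_mem_mul (hkill u hu) (hkill v hv))
      (fun u v hu hv => by rw [mul_add]; exact add_mem hu hv)
  have h1 : H * H * ∑ k, a k * F k ∈ IF • Submodule.span P (Set.range F) := hsq _ ha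
  obtain ⟨b, hb, hbe⟩ := (Submodule.mem_ideal_smul_span_iff_exists_sum IF F _).1 h1
  rw [Finsupp.sum_fintype b (fun i c => c • F i) (fun i => zero_smul _ _)] at hbe
  let e : Fin c → P := fun k => H * H * a k - b k
  have he : ∑ k, e k * F k = 0 := by
    simp only [e, sub_mul, Finset.sum_sub_distrib, mul_assoc, ← Finset.mul_sum]
    rw [← mul_assoc, ← hbe, sub_eq_zero]
    exact Finset.sum_congr rfl fun i _ => smul_eq_mul _ _
  let e' : Fin (c + 1) → MvPolynomial (Fin (n + 1)) R := Fin.snoc (fun k => rename Fin.castSucc (e k)) 0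
  have he' : ∑ j, e' j * snocPoly F H j = 0 := by
    rw [Fin.sum_univ_castSucc]
    simp only [e', snocPoly, Fin.snoc_castSucc, Fin.snoc_last, zero_mul, add_zero, ← map_mul, ← map_sum, he, map_zero]
  have h2 := coeff_mem_of_relation (snocPoly F H) (fun q hq hFq i x => by
    haveI := hq
    exact take_regular hgci q hFq i x) e' he' k.castSucc
  let Ah := Localization.Away (φ H)
  let ev : MvPolynomial (Fin (n + 1)) R →ₐ[R] Ah :=
    aeval (Fin.snoc (fun i => algebraMap A Ah (φ (X i))) (IsLocalization.Away.invSelf (φ H)))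
  have hev : ∀ p, ev (rename Fin.castSucc p) = algebraMap A Ah (φ p) := fun p => by
    have : ev.comp (rename Fin.castSucc) = (IsScalarTower.toAlgHom R A Ah).comp φ :=
      MvPolynomial.algHom_ext fun i => by simp [ev]
    exact AlgHom.congr_fun this p
  have hker : Ideal.span (Set.range (snocPoly F H)) ≤ RingHom.ker ev.toRingHom := Ideal.span_le.2 (by
    rintro _ ⟨i, rfl⟩
    show ev (snocPoly F H i) = 0
    refine Fin.lastCases ?_ (fun l => ?_) i
    · simp only [snocPoly, Fin.snoc_last, map_sub, map_mul, map_one, hev]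
      rw [show ev (X (Fin.last n)) = IsLocalization.Away.invSelf (φ H) by simp [ev],
        IsLocalization.Away.mul_invSelf, sub_self]
    · simp only [snocPoly, Fin.snoc_castSucc, hev, hF, map_zero])
  have h3 : ev (e' k.castSucc) = 0 := hker h2
  have hbk : φ (b k) = 0 := (Ideal.span_le.2 (by rintro _ ⟨i, rfl⟩; exact hF i) : IF ≤ RingHom.ker φ.toRingHom) (hb k)
  simp only [e', Fin.snoc_castSucc, hev, e, map_sub, map_mul, hbk, map_zero, sub_zero] at h3
  exact ((IsLocalization.Away.algebraMap_isUnit (φ H)).mul (IsLocalization.Away.algebraMap_isUnit (φ H))).mul_right_eq_zero.1 h3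

open Groth.Agent.SmoothingLib in
/-- The projector onto the conormal module. -/
theorem exists_projector (h : Synt.IsSyntomic R A) {n m : ℕ} (φ : MvPolynomial (Fin n) R →ₐ[R] A)
    (hφ : Function.Surjective φ) (f : Fin m → MvPolynomial (Fin n) R)
    (hker : RingHom.ker φ.toRingHom = Ideal.span (Set.range f)) :
    ∃ E : Matrix (Fin m) (Fin m) A, E * E = E ∧ (∀ l, (fun j => (1 - E) l j) ∈ syz φ f) ∧
      ∀ v ∈ syz φ f, Matrix.vecMul v E = 0 := by
  classical
  let P := MvPolynomial (Fin n) R
  let I := Ideal.span (Set.range f)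
  let Z : Submodule A (Fin m → A) :=
    { carrier := syz φ f
      add_mem' := by
        rintro u v ⟨u', hu, hu'⟩ ⟨v', hv, hv'⟩
        refine ⟨u' + v', fun j => by simp [hu, hv], ?_⟩
        simp only [Pi.add_apply, add_mul, Finset.sum_add_distrib]
        exact add_mem hu' hv'
      zero_mem' := ⟨0, fun j => by simp, by simp⟩
      smul_mem' := by
        rintro r v ⟨v', hv, hv'⟩
        obtain ⟨r', rfl⟩ := hφ r
        refine ⟨r' • v', fun j => by simp [hv], ?_⟩
        simp only [Pi.smul_apply, smul_eq_mul, mul_assoc, ← Finset.mul_sum]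
        exact Ideal.mul_mem_left _ _ hv' }
  -- local projectors
  let T : Set A := {x | ∃ E : Matrix (Fin m) (Fin m) A,
    (∀ l, (fun j => (x • (1 : Matrix (Fin m) (Fin m) A) - E) l j) ∈ Z) ∧
    ∀ v ∈ Z, ∀ j, ∃ N : ℕ, x ^ N * Matrix.vecMul v E j = 0}
  have hT : Ideal.span T = ⊤ := by
    by_contra hne
    obtain ⟨q, hq, hle⟩ := Ideal.exists_le_maximal _ hne
    obtain ⟨c, -, F, H, hH, hF, hkill, hgci⟩ := exists_adapted h φ hφ ⟨q, hq.isPrime⟩
    refine hH (hle (Ideal.subset_span ?_))
    have hFI : ∀ k, F k ∈ I := fun k => by rw [show I = RingHom.ker φ.toRingHom from hker.symm]; exact hF k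
    choose β hβ using fun k => Ideal.mem_span_range_iff_exists_fun.1 (hFI k)
    choose α hα using fun l => Ideal.mem_span_range_iff_exists_fun.1 (hkill (f l) (by
      have : f l ∈ RingHom.ker φ.toRingHom := hker ▸ Ideal.subset_span ⟨l, rfl⟩
      exact this))
    refine ⟨Matrix.of fun l j => ∑ k, φ (α l k) * φ (β k j), fun l => ?_, fun v hv j => ?_⟩
    · refine ⟨fun j => (if l = j then H else 0) - ∑ k, α l k * β k j, fun j => ?_, ?_⟩
      · simp [Matrix.one_apply, apply_ite φ]
      · have h0 : ∑ j, ((if l = j then H else 0) - ∑ k, α l k * β k j) * f j = 0 := by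
          simp only [sub_mul, Finset.sum_sub_distrib, ite_mul, zero_mul, Finset.sum_ite_eq, Finset.mem_univ, if_true,
            Finset.sum_mul, mul_assoc]
          rw [Finset.sum_comm]
          simp only [← Finset.mul_sum, hβ]
          rw [sub_eq_zero]
          exact (hα l).symm
        rw [h0]; exact zero_mem _
    · obtain ⟨v', hv', hrel⟩ := hv
      have hz : ∀ k, algebraMap A (Localization.Away (φ H)) (φ (∑ l, v' l * α l k)) = 0 :=
        adapted_syz φ F H hF hkill hgci (fun k => ∑ l, v' l * α l k) (by
          rw [show ∑ k, (∑ l, v' l * α l k) * F k = H * ∑ l, v' l * f l by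
            simp only [Finset.sum_mul, Finset.mul_sum]
            rw [Finset.sum_comm]
            refine Finset.sum_congr rfl fun l _ => ?_
            rw [← mul_left_comm, ← hα l, Finset.mul_sum]
            exact Finset.sum_congr rfl fun k _ => by ring]
          rw [hker]
          exact Ideal.mul_mem_left _ _ hrel)
      have h0 : algebraMap A (Localization.Away (φ H))
          (Matrix.vecMul v (Matrix.of fun l j => ∑ k, φ (α l k) * φ (β k j)) j) = 0 := by
        have : Matrix.vecMul v (Matrix.of fun l j => ∑ k, φ (α l k) * φ (β k j)) j =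
            ∑ k, φ (∑ l, v' l * α l k) * φ (β k j) := by
          simp only [Matrix.vecMul, dotProduct, Matrix.of_apply, Finset.mul_sum, map_sum, map_mul, hv', Finset.sum_mul]
          rw [Finset.sum_comm]
          simp only [mul_assoc]
        rw [this, map_sum]
        exact Finset.sum_eq_zero fun k _ => by rw [map_mul, hz, zero_mul]
      obtain ⟨⟨_, N, rfl⟩, hN⟩ := (IsLocalization.map_eq_zero_iff (Submonoid.powers (φ H)) _ _).1 h0
      exact ⟨N, hN⟩
  obtain ⟨s, hsT, hs⟩ := (Ideal.span_eq_top_iff_finite T).1 hT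
  choose Ex hEx1 hEx2 using fun x : (s : Set A) => (hsT x.2 : (x : A) ∈ T)
  let gen : ↥(s : Set A) × Fin m → (Fin m → A) := fun p j =>
    ((p.1 : A) • (1 : Matrix (Fin m) (Fin m) A) - Ex p.1) p.2 j
  have hgen : ∀ v ∈ Z, v ∈ Submodule.span A (Set.range gen) := by
    intro v hv
    refine Submodule.mem_of_span_eq_top_of_smul_pow_mem _ _ hs v fun x => ?_
    choose N hN using fun j => hEx2 x v hv j
    refine ⟨(∑ j, N j) + 1, ?_⟩
    have hvE : (x : A) ^ (∑ j, N j) • Matrix.vecMul v (Ex x) = 0 := funext fun j => by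
      obtain ⟨d, hd⟩ := Nat.exists_eq_add_of_le (Finset.single_le_sum (f := N) (fun _ _ => Nat.zero_le _) (Finset.mem_univ j))
      rw [Pi.smul_apply, smul_eq_mul, hd, pow_add, mul_right_comm, hN, zero_mul, Pi.zero_apply]
    have hdecomp : (x : A) • v = (∑ l, v l • gen (x, l)) + Matrix.vecMul v (Ex x) := by
      funext j
      simp only [Pi.add_apply, Pi.smul_apply, Finset.sum_apply, smul_eq_mul, gen, Matrix.sub_apply,
        Matrix.smul_apply, Matrix.one_apply, Matrix.vecMul, dotProduct, mul_sub, Finset.sum_sub_distrib, mul_ite,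
        mul_one, mul_zero, Finset.sum_ite_eq', Finset.mem_univ, if_true]
      ring
    rw [pow_succ, mul_smul, hdecomp, smul_add, hvE, add_zero]
    exact Submodule.smul_mem _ _ (Submodule.sum_mem _ fun l _ =>
      Submodule.smul_mem _ _ (Submodule.subset_span ⟨(x, l), rfl⟩))
  -- uniform exponents
  have hgenZ : ∀ p, gen p ∈ Z := fun p => hEx1 p.1 p.2
  choose N hN using fun (x : (s : Set A)) (p : ↥(s : Set A) × Fin m) (j : Fin m) => hEx2 x (gen p) (hgenZ p) j
  let K := ∑ x : (s : Set A), ∑ p : ↥(s : Set A) × Fin m, ∑ j, N x p j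
  have hzero : ∀ (x : (s : Set A)) (v), v ∈ Z → (x : A) ^ K • Matrix.vecMul v (Ex x) = 0 := by
    intro x v hv
    have hv' := hgen v hv
    induction hv' using Submodule.span_induction with
    | mem y hy =>
      obtain ⟨p, rfl⟩ := hy
      funext j
      have hle : N x p j ≤ K := le_trans (le_trans
        (Finset.single_le_sum (f := fun j => N x p j) (fun _ _ => Nat.zero_le _) (Finset.mem_univ j))
        (Finset.single_le_sum (f := fun p => ∑ j, N x p j) (fun _ _ => Nat.zero_le _) (Finset.mem_univ p)))
        (Finset.single_le_sum (f := fun x => ∑ p, ∑ j, N x p j) (fun _ _ => Nat.zero_le _) (Finset.mem_univ x))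
      obtain ⟨d, hd⟩ := Nat.exists_eq_add_of_le hle
      rw [Pi.smul_apply, smul_eq_mul, hd, pow_add, mul_right_comm, hN, zero_mul, Pi.zero_apply]
    | zero => rw [Matrix.zero_vecMul, smul_zero]
    | add a b ha' hb' iha ihb =>
      have haZ : a ∈ Z := Submodule.span_le.2 (by rintro _ ⟨p, rfl⟩; exact hgenZ p) ha'
      have hbZ : b ∈ Z := Submodule.span_le.2 (by rintro _ ⟨p, rfl⟩; exact hgenZ p) hb'
      rw [Matrix.add_vecMul, smul_add, iha haZ, ihb hbZ, add_zero]
    | smul r a ha' iha =>
      have haZ : a ∈ Z := Submodule.span_le.2 (by rintro _ ⟨p, rfl⟩; exact hgenZ p) ha'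
      rw [Matrix.smul_vecMul, smul_comm, iha haZ, smul_zero]
  obtain ⟨w, hw⟩ := Ideal.mem_span_range_iff_exists_fun.1
    (show (1 : A) ∈ Ideal.span (Set.range fun x : (s : Set A) => (x : A) ^ (K + 1)) by
      rw [show (Set.range fun x : (s : Set A) => (x : A) ^ (K + 1)) = (· ^ (K + 1)) '' (s : Set A) from
        (Set.image_eq_range _ _).symm, Ideal.span_pow_eq_top _ hs]
      trivial)
  let E : Matrix (Fin m) (Fin m) A := ∑ x, (w x * (x : A) ^ K) • Ex x
  have h1E : ∀ l, (fun j => (1 - E) l j) ∈ Z := by
    intro l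
    have : (fun j => (1 - E) l j) = ∑ x, (w x * (x : A) ^ K) • gen (x, l) := by
      funext j
      simp only [gen, E, Matrix.sub_apply, Matrix.sum_apply, Matrix.smul_apply, smul_eq_mul, Finset.sum_apply,
        Pi.smul_apply, mul_sub, Finset.sum_sub_distrib]
      congr 1
      conv_lhs => rw [show (1 : Matrix (Fin m) (Fin m) A) l j = 1 * (1 : Matrix (Fin m) (Fin m) A) l j from (one_mul _).symm]
      rw [← hw, Finset.sum_mul]
      exact Finset.sum_congr rfl fun x _ => by ring
    rw [this]
    exact Submodule.sum_mem _ fun x _ => Submodule.smul_mem _ _ (hgenZ (x, l))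
  have h2E : ∀ v ∈ Z, Matrix.vecMul v E = 0 := fun v hv => by
    simp only [E, Matrix.vecMul_sum, Matrix.vecMul_smul]
    exact Finset.sum_eq_zero fun x _ => by rw [mul_smul, hzero x v hv, smul_zero]
  refine ⟨E, ?_, h1E, h2E⟩
  have : (1 - E) * E = 0 := Matrix.ext fun l j => by
    rw [Matrix.mul_apply_eq_vecMul, Matrix.zero_apply]
    exact congrFun (h2E _ (h1E l)) j
  rw [Matrix.sub_mul, Matrix.one_mul, sub_eq_zero] at this
  exact this.symm

end Groth.Agent.SynLift
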